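import Cfsg.Agent.H42.Deg.F4Big
import Cfsg.Agent.KFacts.TwF4.Inst
import Cfsg.Agent.S1068
import Cfsg.Agent.H163.Steinberg
import Cfsg.Agent.Mrg.ParSys.Fam.TwoFFour
import Cfsg.Agent.H33.IM

/-!
# Character degrees of `²F₄(q)`, `q = 2^(2m+1) > 2` (DEG-4)

* `big` : one irreducible character whose degree is divisible by all odd prime divisors of the order;
* `im` : Itô-Michler.
-/

set_option autoImplicit false

namespace Cfsg.Agent.H42.Deg.F4

open Cfsg Cfsg.Agent.SplitTwo Cfsg.Agent.SplitTwo.ZS Cfsg.Agent.TitsThree.RankTwoZ Cfsg.Agent.SplitTwo.RootSysZ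
open Cfsg.Agent.KFacts.TwF4

theorem arith {q i a p : ℕ} (hp : p.Prime) (hp2 : p ≠ 2) {n : ℕ} (hq : q = 2 ^ n) (hn : 0 < n)
    (hi : q * (q - 1) * (q + 1) * ((q - 1) * 2 ^ a) * i =
      q ^ 12 * (q - 1) * (q ^ 3 + 1) * (q ^ 4 - 1) * (q ^ 6 + 1))
    (hd : p ∣ q ^ 12 * (q - 1) * (q ^ 3 + 1) * (q ^ 4 - 1) * (q ^ 6 + 1)) : p ∣ i * (q - 1) := by
  have h2 : ∀ k : ℕ, ¬ p ∣ 2 ^ k := fun k h =>
    hp2 ((Nat.prime_dvd_prime_iff_eq hp Nat.prime_two).1 (hp.dvd_of_dvd_pow h))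
  have hqp : ¬ p ∣ q := by rw [hq]; exact h2 n
  have hq2 : 2 ≤ q := by
    rw [hq]
    calc 2 = 2 ^ 1 := rfl
      _ ≤ 2 ^ n := Nat.pow_le_pow_right (by norm_num) hn
  obtain ⟨k, hk⟩ : ∃ k, q = k + 1 := ⟨q - 1, by omega⟩
  have hk1 : q - 1 = k := by omega
  have hk0 : 0 < k := by omega
  have h4 : q ^ 4 - 1 = k * (q + 1) * (q ^ 2 + 1) := by
    have : q ^ 4 = k * (q + 1) * (q ^ 2 + 1) + 1 := by rw [hk]; ring
    omega
  rw [hk1, h4] at hi hd
  rw [hk1]
  by_cases hpk : p ∣ k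
  · exact hpk.mul_left i
  apply Dvd.dvd.mul_right
  have h5 : (k * k * (q + 1)) * (q * 2 ^ a * i) = (k * k * (q + 1)) * (q ^ 12 * ((q ^ 3 + 1) * (q ^ 2 + 1) * (q ^ 6 + 1))) := by
    calc (k * k * (q + 1)) * (q * 2 ^ a * i) = q * k * (q + 1) * (k * 2 ^ a) * i := by ring
      _ = _ := by rw [hi]; ring
  have h6 := Nat.eq_of_mul_eq_mul_left (by positivity) h5
  have h7 : p ∣ (q ^ 3 + 1) * (q ^ 2 + 1) * (q ^ 6 + 1) := by
    rcases hp.dvd_mul.1 hd with h | h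
    · rcases hp.dvd_mul.1 h with h | h
      · rcases hp.dvd_mul.1 h with h | h
        · rcases hp.dvd_mul.1 h with h | h
          · exact absurd (hp.dvd_of_dvd_pow h) hqp
          · exact absurd h hpk
        · exact (h.mul_right _).mul_right _
      · rcases hp.dvd_mul.1 h with h | h
        · rcases hp.dvd_mul.1 h with h | h
          · exact absurd h hpk
          · refine Dvd.dvd.mul_right (Dvd.dvd.mul_right ?_ _) _
            have e : q ^ 3 + 1 = (q + 1) * (k * q + 1) := by rw [hk]; ring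
            rw [e]
            exact h.mul_right _
        · exact (h.mul_left _).mul_right _
    · exact h.mul_left _
  have h8 : p ∣ q * 2 ^ a * i := by rw [h6]; exact h7.mul_left _
  rcases hp.dvd_mul.1 h8 with h | h
  · rcases hp.dvd_mul.1 h with h | h
    · exact absurd h hqp
    · exact absurd h (h2 a)
  · exact h

theorem exists_unit {K : Type*} [Field K] [Fintype K] {m : ℕ} (hm : 1 ≤ m) (hK : Fintype.card K = 2 ^ (2 * m + 1)) :
    ∃ c : Kˣ, c ≠ 1 := by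
  classical
  have h8 : 2 < Fintype.card K := by
    rw [hK]
    calc 2 < 2 ^ 3 := by norm_num
      _ ≤ 2 ^ (2 * m + 1) := Nat.pow_le_pow_right (by norm_num) (by omega)
  have h1 : Nat.card Kˣ = Nat.card K - 1 := Nat.card_units K
  have : Nontrivial Kˣ := by
    rw [← Finite.one_lt_card_iff_nontrivial, h1, Nat.card_eq_fintype_card]
    omega
  exact exists_ne 1

/-- **one character for all odd primes** -/
theorem big {G : Type*} [Group G] [Finite G] (h : Lie.Iso2F4 G) :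
    ∃ χ : IrrCharacter G, ∀ p : ℕ, p.Prime → p ≠ 2 → p ∣ Nat.card G → p ∣ charDegree (χ : G → ℂ) := by
  obtain ⟨K, _, _, m, hm, hK, ⟨e⟩⟩ := h
  have hch := Cfsg.Agent.ChevalleyStructure.TwF4.Twisted.charP_two hK
  have hfin : Finite ↥(Lie.twistedF4 K (2 ^ m)) := Finite.of_equiv G e.toEquiv
  obtain ⟨φ, hφ⟩ := Cfsg.Agent.ChevalleyStructure.TwF4.TwistedFix.exists_rln hK
  have hcard := Cfsg.Agent.S1068.result hK
  set S := Cfsg.Agent.KFacts.TwF4.Inst.full hK hφ with hS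
  have hF := exists_unit hm hK
  obtain ⟨χ, hχ, hd⟩ := exists_big S hF
  have hPG := Cfsg.Agent.KFacts.TwF4.Perf.two_J S (show S.R.p = 2 from rfl) (a := 2) (b := 8) (by norm_num)
  obtain ⟨a, ha⟩ := (IsPGroup.iff_card (p := 2)).1 hPG
  have h1 := (PP S).card_mul_index
  have hq : Nat.card K = 2 ^ (2 * m + 1) := by rw [Nat.card_eq_fintype_card, hK]
  rw [card_PP S hF, card_units, hq, ha, hcard] at h1
  refine ⟨⟨χ ∘ e, Cfsg.Agent.Characters.Core.isIrr_comp e.toMonoidHom e.surjective hχ⟩, fun p hp hp2 hpd => ?_⟩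
  have e1 : charDegree (χ ∘ e) = charDegree χ := by
    have k1 := Cfsg.Agent.Blocks.Basic.irr_one_eq_charDegree hχ
    have k2 := Cfsg.Agent.Blocks.Basic.irr_one_eq_charDegree
      (Cfsg.Agent.Characters.Core.isIrr_comp e.toMonoidHom e.surjective hχ)
    have k3 : (χ ∘ e.toMonoidHom) 1 = χ 1 := by
      show χ (e 1) = χ 1
      rw [map_one]
    rw [k3, k1] at k2
    exact_mod_cast k2.symm
  show p ∣ charDegree (χ ∘ e)
  rw [e1]
  refine dvd_trans ?_ hd
  rw [hq]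
  refine arith hp hp2 rfl (by omega) h1 ?_
  rw [← hcard, ← Nat.card_congr e.toEquiv]
  exact hpd

/-- `²F₄(q)` has a split (B,N)-pair. -/
theorem hasSplit {G : Type*} [Group G] (h : Lie.Iso2F4 G) : FixBN.HasSplit 2 G := by
  obtain ⟨K, i1, i2, m, hm, hK, ⟨e⟩⟩ := h
  obtain ⟨Q, UE, s, t, hp, -⟩ := ParSys.Fam.TwoFFour.exists_all hm hK
  refine FixBN.Transport.hasSplit_congr e.symm ⟨Q, UE, ⟨s, ?_⟩, hp.split⟩
  rw [hp.S]
  exact Set.mem_insert _ _

/-- **Itô-Michler for `²F₄(q)`.** -/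
theorem im (S : Type*) [Group S] [Finite S] (h : Lie.Iso2F4 S) (_hs : IsSimpleGroup S) {p : ℕ} [hp : Fact p.Prime]
    (hd : p ∣ Nat.card S) : H33.IM p S := by
  by_cases hp2 : p = 2
  · subst hp2
    obtain ⟨χ, hχ, h1⟩ := H163.Steinberg.exists_irr_of_hasSplit (hasSplit h)
    have Q : Sylow 2 S := default
    refine ⟨⟨χ, hχ⟩, ?_⟩
    have k1 := Cfsg.Agent.Blocks.Basic.irr_one_eq_charDegree hχ
    rw [(h1 Q).1] at k1
    have k2 : Nat.card Q = charDegree χ := by exact_mod_cast k1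
    show 2 ∣ charDegree χ
    rw [← k2]
    exact Q.dvd_card_of_dvd_card hd
  · obtain ⟨χ, hχ⟩ := big h
    exact ⟨χ, hχ p hp.out hp2 hd⟩

end Cfsg.Agent.H42.Deg.F4
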