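import Cfsg.Agent.H42.Deg.F4Levi
import Cfsg.Agent.KFacts.TwF4.Irr

/-!
# The parabolic subgroup `⟨T, X_0, …, X_8⟩` of `²F₄(q)` and its Levi complement

For `S : Full σ G`: `TE = {h (σ c) c}`, `ZE = {h 1 c}`, `T = TE ZE`, `L4 = ⟨X_0, X_8⟩ ≅ Sz(q)`, `PB = T ⟨X_0, …, X_8⟩ =
(L4 × ZE) ⟨X_1, …, X_7⟩`; the Bruhat decomposition of `L4` (`data`) and the double cosets of `PB` (`dcoset`).
-/

set_option autoImplicit false
set_option linter.unusedSectionVars false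

namespace Cfsg.Agent.H42.Deg.F4B

open Cfsg.Agent.SplitTwo Cfsg.Agent.SplitTwo.ZS Cfsg.Agent.TitsThree.RankTwoZ Cfsg.Agent.SplitTwo.RootSysZ
open Cfsg.Agent.KFacts.TwF4 Cfsg.Agent.KFacts.TwF4.Arc Cfsg.Agent.KFacts.TwF4.SylU Cfsg.Agent.KFacts.TwF4.TorEx
open Cfsg.Agent.KFacts.TwF4.Full Cfsg.Agent.KFacts.TwF4.Irr Cfsg.Agent.LieRecognition.RankOneAbstract
open Cfsg.Agent.H42.Deg Cfsg.Agent.H42.Deg.F4
open scoped Pointwise

universe u

variable {F : Type*} [Field F] {σ : F →+* F} {G : Type u} [Group G] (S : Full σ G)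

/-- the torus of `L4` -/
def TE : Subgroup G where
  carrier := {g | ∃ c, S.h (Units.map (σ : F →* F) c) c = g}
  one_mem' := ⟨1, by rw [map_one, S.h_one]⟩
  mul_mem' := by
    rintro _ _ ⟨c, rfl⟩ ⟨d, rfl⟩
    exact ⟨c * d, by rw [S.h_mul, map_mul]⟩
  inv_mem' := by
    rintro _ ⟨c, rfl⟩
    exact ⟨c⁻¹, by rw [S.h_inv, map_inv]⟩

/-- the centre of the Levi complement -/
def ZE : Subgroup G where
  carrier := {g | ∃ c, S.h 1 c = g}
  one_mem' := ⟨1, S.h_one⟩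
  mul_mem' := by
    rintro _ _ ⟨c, rfl⟩ ⟨d, rfl⟩
    exact ⟨c * d, by rw [S.h_mul, one_mul]⟩
  inv_mem' := by
    rintro _ ⟨c, rfl⟩
    exact ⟨c⁻¹, by rw [S.h_inv, inv_one]⟩

theorem TE_le_T : TE S ≤ S.T := by
  rintro _ ⟨c, rfl⟩
  exact S.mem_T.2 ⟨_, _, rfl⟩

theorem ZE_le_T : ZE S ≤ S.T := by
  rintro _ ⟨c, rfl⟩
  exact S.mem_T.2 ⟨_, _, rfl⟩

theorem h_TE (c : Fˣ) : S.h (Units.map (σ : F →* F) c) c ∈ TE S := ⟨c, rfl⟩
theorem h_ZE (c : Fˣ) : S.h 1 c ∈ ZE S := ⟨c, rfl⟩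

theorem TE_le_L4 [Finite F] : TE S ≤ L4 S := by
  rintro _ ⟨c, rfl⟩
  exact h_mem_L4 S c

include S in
/-- `σ` is surjective on units -/
theorem map_surj [Finite F] (c : Fˣ) : ∃ d : Fˣ, Units.map (σ : F →* F) d = c := by
  refine Finite.surjective_of_injective (f := Units.map (σ : F →* F)) ?_ c
  intro a b h
  exact Units.ext (σ.injective (congrArg Units.val h))

include S in
theorem map_inj {c : Fˣ} (h : Units.map (σ : F →* F) c = 1) : c = 1 := by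
  apply Units.ext
  apply σ.injective
  rw [Units.val_one, map_one]
  exact congrArg Units.val h

/-- `T = TE ZE` -/
theorem T_split [Finite F] {t : G} (ht : t ∈ S.T) : ∃ a ∈ TE S, ∃ z ∈ ZE S, t = a * z := by
  obtain ⟨c, d, rfl⟩ := S.mem_T.1 ht
  obtain ⟨a, ha⟩ := map_surj S c
  refine ⟨_, h_TE S a, S.h 1 (a⁻¹ * d), h_ZE S _, ?_⟩
  rw [S.h_mul, ha, mul_one, mul_inv_cancel_left]

theorem X0_exists {x : G} (hx : x ∈ S.XZ 0) : ∃ p u, S.e 0 p u = x := (mem_X0 S).1 hx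
theorem X8_exists {x : G} (hx : x ∈ S.XZ 8) : ∃ p u, S.e 4 p u = x := (mem_X8 S).1 hx

/-- `ZE` centralises `X_0` and `X_8` -/
theorem ZE_X0 {z : G} (hz : z ∈ ZE S) {x : G} (hx : x ∈ S.XZ 0) : z * x = x * z := by
  obtain ⟨c, rfl⟩ := hz
  obtain ⟨p, u, rfl⟩ := X0_exists S hx
  rw [← mul_inv_eq_iff_eq_mul, S.h_e, chE_zero, Units.val_one, map_one, one_mul, one_mul, one_mul]

theorem ZE_X8 {z : G} (hz : z ∈ ZE S) {x : G} (hx : x ∈ S.XZ 8) : z * x = x * z := by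
  obtain ⟨c, rfl⟩ := hz
  obtain ⟨p, u, rfl⟩ := X8_exists S hx
  rw [← mul_inv_eq_iff_eq_mul, S.h_e, chE_four, inv_one, Units.val_one, map_one, one_mul, one_mul, one_mul]

theorem ZE_L4 {z : G} (hz : z ∈ ZE S) {x : G} (hx : x ∈ L4 S) : z * x = x * z := by
  have h1 : L4 S ≤ Subgroup.centralizer {z} := sup_le
    (fun y hy => Subgroup.mem_centralizer_singleton_iff.2 (ZE_X0 S hz hy).symm)
    (fun y hy => Subgroup.mem_centralizer_singleton_iff.2 (ZE_X8 S hz hy).symm)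
  exact (Subgroup.mem_centralizer_singleton_iff.1 (h1 hx)).symm

/-- `ZE ∩ L4 = 1` -/
theorem ZE_inf_L4 {z : G} (hz : z ∈ ZE S) (hz' : z ∈ L4 S) : z = 1 := by
  obtain ⟨c, rfl⟩ := hz
  have h1 := S.comm_PL (L4_le_PL S hz') (S.mem_Zc.2 ⟨(1 : F), rfl⟩)
  rw [← mul_inv_eq_iff_eq_mul, S.h_e, mul_zero, mul_one] at h1
  have h2 := (S.injE 2 _ _ _ _ h1).2
  have h3 : chE σ 2 1 c * Units.map (σ : F →* F) (chE σ 2 1 c) = 1 := Units.ext h2
  have h4 := S.unit_eq_one h3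
  rw [chE_two, div_one] at h4
  rw [map_inj S h4, S.h_one]

section fin

variable [Finite F] (hF : ∃ c : Fˣ, c ≠ 1)

include hF in
/-- an element of the torus that centralises `L4` and acts without fixed points on `⟨X_1, …, X_7⟩` -/
theorem exists_z0 : ∃ z0 ∈ S.T, (∀ x ∈ L4 S, z0 * x * z0⁻¹ = x) ∧ ∀ y ∈ J S.XZ 1 7, z0 * y * z0⁻¹ = y → y = 1 := by
  obtain ⟨w, hw⟩ := hF
  obtain ⟨h, hT, h1, h2⟩ := exists_tt S hw 0
  refine ⟨h, hT, ?_, ?_⟩
  · have h3 : L4 S ≤ Subgroup.centralizer {h} := by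
      refine sup_le (fun y hy => ?_) (fun y hy => ?_)
      · rw [Subgroup.mem_centralizer_singleton_iff]
        exact (mul_inv_eq_iff_eq_mul.1 (h1 0 (by norm_num) y hy)).symm
      · rw [Subgroup.mem_centralizer_singleton_iff]
        exact (mul_inv_eq_iff_eq_mul.1 (h1 8 (by norm_num) y hy)).symm
    intro x hx
    rw [← Subgroup.mem_centralizer_singleton_iff.1 (h3 hx), mul_inv_cancel_right]
  · intro y hy hyf
    have h4 : y ∈ S.XZ 0 := mem_X_of_tt S hT h2 (a := 0) (b := 7) (by norm_num) (by norm_num) (by norm_num)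
      (J_mono (by norm_num) le_rfl hy) hyf
    exact S.zsys8.inter 0 y h4 (J_mono (by norm_num) (by norm_num) hy)

/-- the parabolic subgroup -/
def PB : Subgroup G := S.T ⊔ J S.XZ 0 8

/-- the kernel of `PB → L4` -/
def NB : Subgroup G := ZE S ⊔ J S.XZ 1 7

theorem T_le_PB : S.T ≤ PB S := le_sup_left
theorem J_le_PB : J S.XZ 0 8 ≤ PB S := le_sup_right
theorem L4_le_J : L4 S ≤ J S.XZ 0 8 := L4_le_PL S
theorem L4_le_PB : L4 S ≤ PB S := (L4_le_J S).trans (J_le_PB S)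
theorem ZE_le_PB : ZE S ≤ PB S := (ZE_le_T S).trans (T_le_PB S)
theorem NB_le_PB : NB S ≤ PB S :=
  sup_le (ZE_le_PB S) ((J_mono (by norm_num) (by norm_num)).trans (J_le_PB S))

theorem NB_form {x : G} (hx : x ∈ NB S) : ∃ z ∈ ZE S, ∃ y ∈ J S.XZ 1 7, x = z * y :=
  mem_sup_of_norm (fun _ ha _ hb => S.T_conj_J (ZE_le_T S ha) hb) hx

theorem J08_split {y : G} (hy : y ∈ J S.XZ 0 8) : ∃ l ∈ L4 S, ∃ q ∈ J S.XZ 1 7, y = l * q := PL_split S hy

/-- `PB = L4 NB` -/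
theorem PB_form {x : G} (hx : x ∈ PB S) : ∃ l ∈ L4 S, ∃ n ∈ NB S, x = l * n := by
  obtain ⟨t, ht, y, hy, rfl⟩ := mem_sup_of_norm (fun a ha b hb => S.T_conj_J ha hb) hx
  obtain ⟨a, ha, z, hz, rfl⟩ := T_split S ht
  obtain ⟨l, hl, q, hq, rfl⟩ := J08_split S hy
  refine ⟨a * l, mul_mem (TE_le_L4 S ha) hl, z * q, mul_mem (Subgroup.mem_sup_left hz) (Subgroup.mem_sup_right hq), ?_⟩
  calc a * z * (l * q) = a * (z * l) * q := by group
    _ = a * l * (z * q) := by rw [ZE_L4 S hz hl]; group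

/-- `PB = ZE J` -/
theorem PB_form' {x : G} (hx : x ∈ PB S) : ∃ z ∈ ZE S, ∃ y ∈ J S.XZ 0 8, x = z * y := by
  obtain ⟨t, ht, y, hy, rfl⟩ := mem_sup_of_norm (fun a ha b hb => S.T_conj_J ha hb) hx
  obtain ⟨a, ha, z, hz, rfl⟩ := T_split S ht
  refine ⟨z, hz, a * y, mul_mem (L4_le_J S (TE_le_L4 S ha)) hy, ?_⟩
  rw [T_comm S (TE_le_T S ha) (ZE_le_T S hz), mul_assoc]

theorem NB_norm {x n : G} (hx : x ∈ PB S) (hn : n ∈ NB S) : x * n * x⁻¹ ∈ NB S := by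
  obtain ⟨l, hl, n', hn', rfl⟩ := PB_form S hx
  have h1 : n' * n * n'⁻¹ ∈ NB S := mul_mem (mul_mem hn' hn) (inv_mem hn')
  obtain ⟨z, hz, q, hq, h2⟩ := NB_form S h1
  have e : l * n' * n * (l * n')⁻¹ = z * (l * q * l⁻¹) := by
    calc l * n' * n * (l * n')⁻¹ = l * (n' * n * n'⁻¹) * l⁻¹ := by group
      _ = (l * z) * q * l⁻¹ := by rw [h2]; group
      _ = z * (l * q * l⁻¹) := by rw [← ZE_L4 S hz hl]; group
  rw [e]
  exact mul_mem (Subgroup.mem_sup_left hz) (Subgroup.mem_sup_right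
    (S.zsys8.conj_J (a := 1) (b := 7) (c := 0) (d := 8) (by norm_num) (by norm_num) (by norm_num) (L4_le_J S hl) hq))

theorem J08_norm {x n : G} (hx : x ∈ PB S) (hn : n ∈ J S.XZ 0 8) : x * n * x⁻¹ ∈ J S.XZ 0 8 := by
  obtain ⟨z, hz, y, hy, rfl⟩ := PB_form' S hx
  have e : z * y * n * (z * y)⁻¹ = z * (y * n * y⁻¹) * z⁻¹ := by group
  rw [e]
  exact S.T_conj_J (ZE_le_T S hz) (mul_mem (mul_mem hy hn) (inv_mem hy))

include hF in
theorem L4_inf_NB {x : G} (hx : x ∈ L4 S) (hx' : x ∈ NB S) : x = 1 := by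
  obtain ⟨z0, h0, h1, h2⟩ := exists_z0 S hF
  obtain ⟨z, hz, q, hq, rfl⟩ := NB_form S hx'
  have hc : z0 * z = z * z0 := T_comm S h0 (ZE_le_T S hz)
  have h3 := h1 _ hx
  have h4 : z0 * q * z0⁻¹ = q := by
    have e : z0 * (z * q) * z0⁻¹ = z * (z0 * q * z0⁻¹) := by
      rw [← mul_assoc, hc]; group
    rw [e] at h3
    exact mul_left_cancel h3
  have h5 := h2 q hq h4
  rw [h5, mul_one] at hx ⊢
  exact ZE_inf_L4 S hz hx

include hF in
theorem ZE_inf_J {x : G} (hx : x ∈ ZE S) (hx' : x ∈ J S.XZ 0 8) : x = 1 := by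
  obtain ⟨z0, h0, h1, h2⟩ := exists_z0 S hF
  obtain ⟨l, hl, q, hq, rfl⟩ := J08_split S hx'
  have h3 : z0 * (l * q) = l * q * z0 := T_comm S h0 (ZE_le_T S hx)
  have h4 : z0 * q * z0⁻¹ = q := by
    have h5 := h1 l hl
    have h6 : (z0 * l * z0⁻¹) * (z0 * q * z0⁻¹) = l * q := by
      calc (z0 * l * z0⁻¹) * (z0 * q * z0⁻¹) = (z0 * (l * q)) * z0⁻¹ := by group
        _ = l * q := by rw [h3, mul_inv_cancel_right]
    rw [h5] at h6
    exact mul_left_cancel h6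
  have h5 := h2 q hq h4
  rw [h5, mul_one] at hx ⊢
  exact ZE_inf_L4 S hx hl

include hF in
theorem ZE_inf_J17 {x : G} (hx : x ∈ ZE S) (hx' : x ∈ J S.XZ 1 7) : x = 1 :=
  ZE_inf_J S hF hx (J_mono (by norm_num) (by norm_num) hx')

end fin

/-! ### the rank one group `L4` -/

/-- the Borel subgroup of `L4` -/
def BE : Subgroup G := TE S ⊔ S.XZ 8

theorem BE_form {b : G} (hb : b ∈ BE S) : ∃ x ∈ S.XZ 8, ∃ t ∈ TE S, b = x * t := by
  obtain ⟨t, ht, x, hx, rfl⟩ := mem_sup_of_norm (fun a ha b hb => S.T_conj (TE_le_T S ha) 8 hb) hb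
  exact ⟨t * x * t⁻¹, S.T_conj (TE_le_T S ht) 8 hx, t, ht, by group⟩

theorem BE_norm {b x : G} (hb : b ∈ BE S) (hx : x ∈ S.XZ 8) : b * x * b⁻¹ ∈ S.XZ 8 := by
  obtain ⟨y, hy, t, ht, rfl⟩ := BE_form S hb
  have e : y * t * x * (y * t)⁻¹ = y * (t * x * t⁻¹) * y⁻¹ := by group
  rw [e]
  exact mul_mem (mul_mem hy (S.T_conj (TE_le_T S ht) 8 hx)) (inv_mem hy)

theorem BE_le_L4 [Finite F] : BE S ≤ L4 S := sup_le (TE_le_L4 S) le_sup_right

theorem n2_X8 {x : G} (hx : x ∈ S.XZ 8) : S.n2 * x * S.n2⁻¹ ∈ S.XZ 0 := by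
  obtain ⟨p, u, rfl⟩ := X8_exists S hx
  rw [S.n2_e, sub_self]
  exact (mem_X0 S).2 ⟨p, u, rfl⟩

theorem n2_X8' {x : G} (hx : x ∈ S.XZ 8) : S.n2⁻¹ * x * S.n2 ∈ S.XZ 0 := by
  have := n2_X8 S hx
  rw [Arc.n2_inv S] at this ⊢
  exact this

theorem n2_not_mem : S.n2 ∉ BE S := by
  intro h
  have h8 : S.e 4 1 0 ∈ S.XZ 8 := (mem_X8 S).2 ⟨1, 0, rfl⟩
  have h1 := BE_norm S h h8
  have h2 := n2_X8 S h8
  have h3 := S.X_inf_opp (i := 0) h2 h1
  have h4 : S.e 4 1 0 = 1 := by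
    have e : S.e 4 1 0 = S.n2⁻¹ * (S.n2 * S.e 4 1 0 * S.n2⁻¹) * S.n2 := by group
    rw [e, h3]; group
  exact one_ne_zero (S.e_eq_one h4).1

/-- an element of order dividing 4 of the torus is trivial -/
theorem T_four {t : G} (ht : t ∈ S.T) (h : t ^ 4 = 1) : t = 1 := by
  obtain ⟨c, d, rfl⟩ := S.mem_T.1 ht
  obtain ⟨rfl, rfl⟩ := torus_two S (k := 2) (by norm_num; exact h)
  exact S.h_one

theorem e_four (a : ZMod 8) (p u : F) : S.e a p u ^ 4 = 1 := by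
  have h1 : S.e a p u ^ 4 = (S.e a p u * S.e a p u) * (S.e a p u * S.e a p u) := by
    rw [show (4 : ℕ) = 2 + 2 from rfl, pow_add, pow_two]
  rw [h1, Arc.e_sq, Arc.e_sq, map_zero, mul_zero, S.e_zero]

theorem pow_form {x t : G} (hx : x ∈ S.XZ 8) (ht : t ∈ TE S) (n : ℕ) : ∃ y ∈ S.XZ 8, (x * t) ^ n = y * t ^ n := by
  induction n with
  | zero => exact ⟨1, one_mem _, by simp⟩
  | succ n ih =>
    obtain ⟨y, hy, h⟩ := ih
    refine ⟨y * (t ^ n * x * (t ^ n)⁻¹), mul_mem hy (S.T_conj (pow_mem (TE_le_T S ht) n) 8 hx), ?_⟩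
    rw [pow_succ, h, pow_succ]; group

/-- `X_8 ∩ T = 1` -/
theorem X8_inf_T {t : G} (hx : t ∈ S.XZ 8) (ht : t ∈ S.T) : t = 1 := by
  apply T_four S ht
  obtain ⟨p, u, rfl⟩ := X8_exists S hx
  exact e_four S 4 p u

/-- `X_0 ∩ BE = 1` -/
theorem X0_inf_BE {y : G} (hy : y ∈ S.XZ 0) (hb : y ∈ BE S) : y = 1 := by
  obtain ⟨x, hx, t, ht, rfl⟩ := BE_form S hb
  obtain ⟨y, hy', h⟩ := pow_form S hx ht 4
  obtain ⟨p, u, hpu⟩ := X0_exists S hy
  have h1 : (x * t) ^ 4 = 1 := by rw [← hpu]; exact e_four S 0 p u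
  rw [h1] at h
  have h2 : t ^ 4 = y⁻¹ := (inv_eq_of_mul_eq_one_right h.symm).symm
  have h3 : t ^ 4 = 1 := X8_inf_T S (h2 ▸ inv_mem hy') (pow_mem (TE_le_T S ht) 4)
  have h4 := T_four S (TE_le_T S ht) h3
  rw [h4, mul_one] at hy ⊢
  exact S.X_inf_opp (i := 0) hy hx

/-- the Borel subgroup of `L4`, intrinsically -/
theorem mem_BE_of [Finite F] (hF : ∃ c : Fˣ, c ≠ 1) {b : G} (hb : b ∈ L4 S) (hb' : b ∈ J S.XZ 1 8 ⊔ S.T) : b ∈ BE S := by
  obtain ⟨t, ht, u, hu, h⟩ := mem_sup_of_norm (A := S.T) (B := J S.XZ 1 8) (fun _ ha _ hb => S.T_conj_J ha hb)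
    (by rwa [sup_comm] at hb')
  obtain ⟨x, hx, q, hq, rfl⟩ := S.zsys8.split_rl (a := 1) (b := 8) (by norm_num) (by norm_num) hu
  obtain ⟨a, ha, z, hz, rfl⟩ := T_split S ht
  have h1 : (a * x)⁻¹ * b = z * q := by
    have hzx := ZE_X8 S hz hx
    rw [h]
    calc (a * x)⁻¹ * (a * z * (x * q)) = x⁻¹ * (z * x) * q := by group
      _ = z * q := by rw [hzx]; group
  have h2 : a * x ∈ BE S := mul_mem (Subgroup.mem_sup_left ha) (Subgroup.mem_sup_right hx)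
  have h3 : (a * x)⁻¹ * b = 1 := by
    apply L4_inf_NB S hF (mul_mem (inv_mem (BE_le_L4 S h2)) hb)
    rw [h1]
    exact mul_mem (Subgroup.mem_sup_left hz) (Subgroup.mem_sup_right (J_mono le_rfl (by norm_num) hq))
  rw [inv_mul_eq_one] at h3
  rw [← h3]
  exact h2

/-- **the Bruhat decomposition of `L4`** -/
theorem L4_bruhat [Finite F] (hF : ∃ c : Fˣ, c ≠ 1) {g : G} (hg : g ∈ L4 S) :
    g ∈ BE S ∨ ∃ x ∈ S.XZ 8, ∃ b ∈ BE S, g = x * S.n2 * b := by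
  rcases bruhat_PL S (L4_le_PL S (inv_mem hg)) with h | ⟨b, hb, x, hx, h⟩
  · left
    have := mem_BE_of S hF (inv_mem hg) h.2
    have h2 := inv_mem this
    rwa [inv_inv] at h2
  · right
    have hbL : b ∈ L4 S := by
      have e : b = g⁻¹ * x⁻¹ * S.n2⁻¹ := by rw [h]; group
      rw [e]
      exact mul_mem (mul_mem (inv_mem hg) (inv_mem (X8_L4 S hx))) (inv_mem (n2_mem_L4 S))
    refine ⟨x⁻¹, inv_mem hx, b⁻¹, inv_mem (mem_BE_of S hF hbL hb.2), ?_⟩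
    have e : g = (g⁻¹)⁻¹ := (inv_inv g).symm
    rw [e, h, mul_inv_rev, mul_inv_rev, Arc.n2_inv S, mul_assoc]

/-- the Borel subgroup in `L4` -/
def HB : Subgroup ↥(L4 S) := (BE S).subgroupOf (L4 S)

/-- its unipotent radical -/
def UB : Subgroup ↥(L4 S) := (S.XZ 8).subgroupOf (L4 S)

/-- the reflection in `L4` -/
def nb : ↥(L4 S) := ⟨S.n2, n2_mem_L4 S⟩

theorem mem_HB {x : ↥(L4 S)} : x ∈ HB S ↔ (x : G) ∈ BE S := Subgroup.mem_subgroupOf
theorem mem_UB {x : ↥(L4 S)} : x ∈ UB S ↔ (x : G) ∈ S.XZ 8 := Subgroup.mem_subgroupOf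

/-- **the rank one data** -/
theorem data [Finite F] (hF : ∃ c : Fˣ, c ≠ 1) : Data (HB S) (UB S) (nb S) where
  w_not_mem := n2_not_mem S
  le := fun x hx => (mem_HB S).2 (Subgroup.mem_sup_right ((mem_UB S).1 hx))
  norm := fun _ hh _ hs => BE_norm S hh hs
  bruhat := by
    intro g hg
    rcases L4_bruhat S hF g.2 with h | ⟨x, hx, b, hb, h⟩
    · exact absurd h hg
    · refine ⟨⟨x, X8_L4 S hx⟩, hx, ?_⟩
      rw [mem_HB]
      have e : (((⟨x, X8_L4 S hx⟩ * nb S)⁻¹ * g : ↥(L4 S)) : G) = b := by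
        show (x * S.n2)⁻¹ * (g : G) = b
        rw [h]; group
      rw [e]
      exact hb
  inter := by
    intro s hs h
    rw [mem_UB] at hs
    rw [mem_HB] at h
    have h1 : S.n2⁻¹ * (s : G) * S.n2 = 1 := X0_inf_BE S (n2_X8' S hs) h
    apply Subtype.ext
    have e : (s : G) = S.n2 * (S.n2⁻¹ * (s : G) * S.n2) * S.n2⁻¹ := by group
    rw [e, h1]
    show S.n2 * 1 * S.n2⁻¹ = 1
    group

/-! ### orders -/

section card

/-- `|X_8| = q²` -/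
theorem card_X8 : Nat.card (S.XZ 8) = Nat.card F * Nat.card F := by
  rw [← Nat.card_prod]
  symm
  refine Nat.card_eq_of_bijective (fun p : F × F => (⟨S.e 4 p.1 p.2, (mem_X8 S).2 ⟨p.1, p.2, rfl⟩⟩ : S.XZ 8)) ⟨?_, ?_⟩
  · rintro ⟨a, b⟩ ⟨c, d⟩ h
    obtain ⟨h1, h2⟩ := S.injE 4 _ _ _ _ (congrArg Subtype.val h)
    exact Prod.ext h1 h2
  · rintro ⟨x, hx⟩
    obtain ⟨p, u, rfl⟩ := X8_exists S hx
    exact ⟨(p, u), rfl⟩

theorem card_TE : Nat.card (TE S) = Nat.card Fˣ := by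
  symm
  refine Nat.card_eq_of_bijective (fun c => (⟨_, h_TE S c⟩ : TE S)) ⟨?_, ?_⟩
  · intro a b h
    exact (S.h_inj _ _ _ _ (congrArg Subtype.val h)).2
  · rintro ⟨x, c, rfl⟩
    exact ⟨c, rfl⟩

theorem card_ZE : Nat.card (ZE S) = Nat.card Fˣ := by
  symm
  refine Nat.card_eq_of_bijective (fun c => (⟨_, h_ZE S c⟩ : ZE S)) ⟨?_, ?_⟩
  · intro a b h
    exact (S.h_inj _ _ _ _ (congrArg Subtype.val h)).2
  · rintro ⟨x, c, rfl⟩
    exact ⟨c, rfl⟩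

theorem card_BE : Nat.card (BE S) = (Nat.card F * Nat.card F) * Nat.card Fˣ := by
  rw [← card_X8 S, ← card_TE S]
  refine card_of_proj le_sup_right le_sup_left ?_ fun x hx => ?_
  · intro x hx hx'
    exact X8_inf_T S hx (TE_le_T S hx')
  · obtain ⟨y, hy, t, ht, rfl⟩ := BE_form S hx
    exact ⟨y, hy, t, ht, rfl⟩

variable [Finite F]

theorem card_HB : Nat.card (HB S) = (Nat.card F * Nat.card F) * Nat.card Fˣ := by
  rw [← card_BE S]
  exact Nat.card_congr (Subgroup.subgroupOfEquivOfLe (BE_le_L4 S)).toEquiv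

theorem card_UB : Nat.card (UB S) = Nat.card F * Nat.card F := by
  rw [← card_X8 S]
  exact Nat.card_congr (Subgroup.subgroupOfEquivOfLe (X8_L4 S)).toEquiv

theorem card_L4 (hF : ∃ c : Fˣ, c ≠ 1) [Finite G] :
    Nat.card (L4 S) = (Nat.card F * Nat.card F) * Nat.card Fˣ * (Nat.card F * Nat.card F + 1) := by
  rw [← (HB S).card_mul_index, (data S hF).index, card_HB, card_UB]

theorem card_PB (hF : ∃ c : Fˣ, c ≠ 1) [Finite G] : Nat.card (PB S) =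
    ((Nat.card F * Nat.card F) * Nat.card Fˣ * (Nat.card F * Nat.card F + 1)) *
      (Nat.card Fˣ * Nat.card (J S.XZ 1 7)) := by
  rw [← card_L4 S hF]
  have h1 : Nat.card (NB S) = Nat.card Fˣ * Nat.card (J S.XZ 1 7) := by
    rw [← card_ZE S]
    exact card_of_proj le_sup_left le_sup_right (fun x hx hx' => ZE_inf_J17 S hF hx hx') fun x hx => NB_form S hx
  rw [← h1]
  exact card_of_proj (L4_le_PB S) (NB_le_PB S) (fun x hx hx' => L4_inf_NB S hF hx hx') fun x hx => PB_form S hx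

end card

/-! ### the double cosets of `PB` -/

variable [Finite F]

theorem n2_mem_PB : S.n2 ∈ PB S := L4_le_PB S (n2_mem_L4 S)

/-- **double cosets** -/
theorem dcoset {x : G} (hx : x ∉ PB S) : ∃ a ∈ PB S, ∃ b ∈ PB S, ∃ y, x = a * y * b ∧ ∃ c : ℤ, 5 ≤ c ∧ c ≤ 8 ∧
    Maps S.R.X y (fun k => ((2 * c : ℤ) : ZMod (2 * 8)) - k) := by
  obtain ⟨b, hb, t, ht, w, hw, b', hb', rfl⟩ := S.bruhatE x
  have hbP : b ∈ PB S := J_le_PB S (J_mono (by norm_num) le_rfl hb)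
  have hbP' : b' ∈ PB S := J_le_PB S (J_mono (by norm_num) le_rfl hb')
  have htP : t ∈ PB S := T_le_PB S ht
  have hnP := n2_mem_PB S
  have hwP : w ∉ PB S := fun h => hx (mul_mem (mul_mem (mul_mem hbP htP) h) hbP')
  have hn := S.n2_maps
  have e16 : (16 : ZMod (2 * 8)) = 0 := by decide
  obtain ⟨c, hc | hc⟩ := hw
  · -- a rotation by `2 c`
    obtain ⟨c', h1, h2, h3⟩ := reduce c 0
    rw [h3] at hc
    rcases eq_or_lt_of_le h1 with h4 | h4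
    · exfalso
      apply hwP
      apply T_le_PB
      show Maps S.R.X w id
      exact hc.congr fun k => by rw [← h4, mul_zero, Int.cast_zero, zero_add]; rfl
    rcases le_or_gt c' 4 with h5 | h5
    · -- `w n2 : k ↦ 2 (c' + 4) - k`
      refine ⟨b * t, mul_mem hbP htP, S.n2⁻¹ * b', mul_mem (inv_mem hnP) hbP', w * S.n2, by group, c' + 4, by omega,
        by omega, ?_⟩
      refine (hc.mul hn).congr fun k => ?_
      show ((2 * c' : ℤ) : ZMod (2 * 8)) + (8 - k) = _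
      push_cast
      ring
    · -- `n2 w : k ↦ 8 - 2 c' - k`
      refine ⟨b * t * S.n2⁻¹, mul_mem (mul_mem hbP htP) (inv_mem hnP), b', hbP', S.n2 * w, by group, 12 - c', by omega,
        by omega, ?_⟩
      refine (hn.mul hc).congr fun k => ?_
      show (8 : ZMod (2 * 8)) - (((2 * c' : ℤ) : ZMod (2 * 8)) + k) = _
      push_cast
      linear_combination (-1 : ZMod (2 * 8)) * e16
  · -- a reflection
    obtain ⟨c', h1, h2, h3⟩ := reduce c 1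
    rw [h3] at hc
    rcases le_or_gt 5 c' with h5 | h5
    · exact ⟨b * t, mul_mem hbP htP, b', hbP', w, rfl, c', h5, by omega, hc⟩
    rcases eq_or_lt_of_le (show c' ≤ 4 by omega) with h6 | h6
    · exfalso
      apply hwP
      have h7 : w * S.n2 ∈ S.T := by
        show Maps S.R.X (w * S.n2) id
        refine (hc.mul hn).congr fun k => ?_
        show ((2 * c' : ℤ) : ZMod (2 * 8)) - (8 - k) = k
        rw [h6]
        push_cast
        ring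
      have e : w = (w * S.n2) * S.n2⁻¹ := by group
      rw [e]
      exact mul_mem (T_le_PB S h7) (inv_mem hnP)
    · refine ⟨b * t * S.n2⁻¹, mul_mem (mul_mem hbP htP) (inv_mem hnP), S.n2⁻¹ * b', mul_mem (inv_mem hnP) hbP',
        S.n2 * w * S.n2, by group, 8 - c', by omega, by omega, ?_⟩
      refine ((hn.mul hc).mul hn).congr fun k => ?_
      show (8 : ZMod (2 * 8)) - (((2 * c' : ℤ) : ZMod (2 * 8)) - (8 - k)) = _
      push_cast
      ring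

end Cfsg.Agent.H42.Deg.F4B
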