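import Mathlib
import Cfsg.Agent.H53.HC.Rgd
import Cfsg.Agent.H710.Cuspidal
import Cfsg.Agent.CharactersDeep.ExtUnique
import Cfsg.Agent.Characters.GaloisBasic

/-!
# Tools for Harish-Chandra induction by hand (DEG-4)

* `exists_proj` : the projection of `P = L N` onto `L`;
* `dvd_degree` : `Σ_{u ∈ U} θ(u) = 0` and the nontrivial elements of `U` conjugate: `|U| - 1` divides the degree;
* `sum_eq_zero` : a nontrivial linear character sums to zero.
-/

set_option autoImplicit false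

namespace Cfsg.Agent.H42.Deg

open Cfsg Cfsg.Agent.Characters
open scoped ComplexConjugate

section proj

variable {G : Type*} [Group G]

theorem exists_proj {P L N : Subgroup G} (hL : L ≤ P) (hN : N ≤ P)
    (hn : ∀ x ∈ P, ∀ y ∈ N, x * y * x⁻¹ ∈ N) (hLN : ∀ x ∈ L, x ∈ N → x = 1)
    (hP : ∀ x ∈ P, ∃ l ∈ L, ∃ n ∈ N, x = l * n) :
    ∃ π : P →* L, (∀ (l : G) (hl : l ∈ L), π ⟨l, hL hl⟩ = ⟨l, hl⟩) ∧ ∀ (n : G) (h : n ∈ N), π ⟨n, hN h⟩ = 1 := by
  let N' := N.subgroupOf P
  have hN' : N'.Normal := by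
    constructor
    intro y hy g
    rw [Subgroup.mem_subgroupOf] at hy ⊢
    exact hn g g.2 y hy
  let f : L →* P ⧸ N' := (QuotientGroup.mk' N').comp (Subgroup.inclusion hL)
  have hinj : Function.Injective f := by
    rw [injective_iff_map_eq_one]
    intro l hl
    have h1 : Subgroup.inclusion hL l ∈ N' := (QuotientGroup.eq_one_iff _).1 hl
    rw [Subgroup.mem_subgroupOf] at h1
    exact Subtype.ext (hLN _ l.2 h1)
  have hsurj : Function.Surjective f := by
    intro q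
    obtain ⟨⟨g, hg⟩, rfl⟩ := QuotientGroup.mk'_surjective N' q
    obtain ⟨l, hl, n, hn', rfl⟩ := hP g hg
    refine ⟨⟨l, hl⟩, ?_⟩
    refine (QuotientGroup.eq (s := N')).2 ?_
    rw [Subgroup.mem_subgroupOf]
    have e : ((((Subgroup.inclusion hL) ⟨l, hl⟩)⁻¹ * ⟨l * n, hg⟩ : P) : G) = n := by
      change l⁻¹ * (l * n) = n
      group
    rw [e]
    exact hn'
  let e : L ≃* P ⧸ N' := MulEquiv.ofBijective f ⟨hinj, hsurj⟩
  refine ⟨e.symm.toMonoidHom.comp (QuotientGroup.mk' N'), fun l hl => ?_, fun n hn' => ?_⟩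
  · change e.symm (f ⟨l, hl⟩) = _
    exact e.symm_apply_apply _
  · have h1 : QuotientGroup.mk' N' ⟨n, hN hn'⟩ = 1 := by
      refine (QuotientGroup.eq_one_iff _).2 ?_
      rw [Subgroup.mem_subgroupOf]
      exact hn'
    change e.symm (QuotientGroup.mk' N' ⟨n, hN hn'⟩) = 1
    rw [h1, map_one]

/-- the order of `P = L N` -/
theorem card_of_proj {P L N : Subgroup G} (hL : L ≤ P) (hN : N ≤ P)
    (hLN : ∀ x ∈ L, x ∈ N → x = 1) (hP : ∀ x ∈ P, ∃ l ∈ L, ∃ n ∈ N, x = l * n) :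
    Nat.card P = Nat.card L * Nat.card N := by
  rw [← Nat.card_prod]
  symm
  refine Nat.card_eq_of_bijective (fun x : L × N => (⟨x.1 * x.2, mul_mem (hL x.1.2) (hN x.2.2)⟩ : P)) ⟨?_, ?_⟩
  · rintro ⟨⟨a, ha⟩, ⟨b, hb⟩⟩ ⟨⟨c, hc⟩, ⟨d, hd⟩⟩ h
    have h1 : a * b = c * d := congrArg Subtype.val h
    have h2 : c⁻¹ * a = d * b⁻¹ := by
      calc c⁻¹ * a = c⁻¹ * (a * b) * b⁻¹ := by group
        _ = d * b⁻¹ := by rw [h1]; group
    have h3 : c⁻¹ * a = 1 := hLN _ (mul_mem (inv_mem hc) ha) (h2 ▸ mul_mem hd (inv_mem hb))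
    have h4 : a = c := (inv_mul_eq_one.1 h3).symm
    have h5 : b = d := by
      rw [h3] at h2
      exact (mul_inv_eq_one.1 h2.symm).symm
    subst h4 h5
    rfl
  · rintro ⟨g, hg⟩
    obtain ⟨l, hl, n, hn, rfl⟩ := hP g hg
    exact ⟨(⟨l, hl⟩, ⟨n, hn⟩), rfl⟩

end proj

section chars

variable {G : Type*} [Group G]

/-- a nontrivial multiplicative function sums to zero -/
theorem sum_eq_zero {L : Type*} [Group L] [Fintype L] {f : L → ℂ} (hf : ∀ a b, f (a * b) = f a * f b) {z : L}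
    (hz : f z ≠ 1) : ∑ l, f l = 0 := by
  have h1 : ∑ l, f l = f z * ∑ l, f l := by
    rw [Finset.mul_sum]
    exact (Fintype.sum_equiv (Equiv.mulLeft z) (fun l => f z * f l) f fun l => (hf z l).symm).symm
  have h2 : (1 - f z) * ∑ l, f l = 0 := by
    rw [sub_mul, one_mul, ← h1, sub_self]
  rcases mul_eq_zero.1 h2 with h | h
  · exact absurd (sub_eq_zero.1 h).symm hz
  · exact h

/-- `|U| - 1` divides the degree of a character without fixed vectors under `U` -/
theorem dvd_degree [Finite G] {θ : G → ℂ} (hθ : IsIrrCharacter G θ) (U : Subgroup G) [Fintype U]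
    (h0 : ∑ u : U, θ u = 0) (htr : ∀ u ∈ U, ∀ v ∈ U, u ≠ 1 → v ≠ 1 → ∃ g : G, g * u * g⁻¹ = v) :
    Nat.card U - 1 ∣ charDegree θ := by
  classical
  have hd := Cfsg.Agent.Blocks.Basic.irr_one_eq_charDegree hθ
  have hpos := Cfsg.Agent.Blocks.Basic.charDegree_pos hθ
  rcases U.bot_or_exists_ne_one with h1 | ⟨v, hv, hv1⟩
  · exfalso
    have h2 : ∑ u : U, θ u = θ 1 := by
      rw [Finset.sum_eq_single (1 : U)]
      · rfl
      · intro u _ hu
        exact absurd (Subtype.ext (Subgroup.mem_bot.1 (h1 ▸ u.2 : (u : G) ∈ (⊥ : Subgroup G)))) hu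
      · intro h
        exact absurd (Finset.mem_univ _) h
    rw [h2] at h0
    exact Core.isIrr_apply_one_ne_zero hθ h0
  · have hconst : ∀ u : U, u ≠ 1 → θ u = θ v := by
      intro u hu
      obtain ⟨g, hg⟩ := htr u u.2 v hv (fun h => hu (Subtype.ext h)) hv1
      rw [← hg]
      exact (Core.isIrr_isClassFunction hθ u g).symm
    have hsum : ∑ u : U, θ u = θ 1 + ((Nat.card U - 1 : ℕ) : ℂ) * θ v := by
      rw [← Finset.add_sum_erase Finset.univ (fun u : U => θ u) (Finset.mem_univ (1 : U))]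
      rw [Finset.sum_congr rfl (g := fun _ => θ v) fun u hu => hconst u (Finset.ne_of_mem_erase hu)]
      rw [OneMemClass.coe_one, Finset.sum_const, Finset.card_erase_of_mem (Finset.mem_univ _), Finset.card_univ,
        ← Nat.card_eq_fintype_card, nsmul_eq_mul]
    rw [hsum, hd] at h0
    have hint : IsIntegral ℤ (θ v) := Cfsg.Agent.Characters.GaloisBasic.isIntegral_apply (Core.isIrr_isCharacter hθ) v
    have hne : Nat.card U - 1 ≠ 0 := by
      intro h
      rw [h, Nat.cast_zero, zero_mul, add_zero] at h0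
      have h3 : charDegree θ = 0 := by exact_mod_cast h0
      omega
    refine Cfsg.Agent.Characters.DegreeBounds.nat_dvd_of_isIntegral_div hne ?_
    have hne' : ((Nat.card U - 1 : ℕ) : ℂ) ≠ 0 := by exact_mod_cast hne
    have e : (charDegree θ : ℂ) / ((Nat.card U - 1 : ℕ) : ℂ) = - θ v := by
      rw [div_eq_iff hne']
      linear_combination h0
    rw [e]
    exact hint.neg

end chars

end Cfsg.Agent.H42.Deg
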