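import Cfsg.Agent.KFacts.TwF4.TorEx
import Cfsg.Agent.KFacts.TwF4.Perf
import Cfsg.Agent.H42.Deg.Tools
import Cfsg.Agent.LieRecognition.RankOneAbstract

/-!
# The parabolic subgroup `P = ⟨T, X_1, …, X_9⟩` of `²F₄(q)` and its Levi complement (DEG-4)

For `S : Full σ G`: `TM = {h c c}`, `ZJ = {h c c⁻¹}`, `T = TM ZJ`, `LO = ⟨X_1, X_9⟩ ≅ SL_2(q)`, `PP = T ⟨X_1, …, X_9⟩ =
(LO × ZJ) ⟨X_2, …, X_8⟩`; the Bruhat decomposition of `LO` (`data`) and the double cosets of `PP` (`dcoset`).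
-/

set_option autoImplicit false
set_option linter.unusedSectionVars false

namespace Cfsg.Agent.H42.Deg.F4

open Cfsg.Agent.SplitTwo Cfsg.Agent.SplitTwo.ZS Cfsg.Agent.TitsThree.RankTwoZ Cfsg.Agent.SplitTwo.RootSysZ
open Cfsg.Agent.KFacts.TwF4 Cfsg.Agent.KFacts.TwF4.Arc Cfsg.Agent.KFacts.TwF4.SylU Cfsg.Agent.KFacts.TwF4.TorEx
open Cfsg.Agent.KFacts.TwF4.Full Cfsg.Agent.LieRecognition.RankOneAbstract
open scoped Pointwise

universe u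

variable {F : Type*} [Field F] {σ : F →+* F} {G : Type u} [Group G] (S : Full σ G)

/-- the torus of `LO` -/
def TM : Subgroup G where
  carrier := {g | ∃ c, S.h c c = g}
  one_mem' := ⟨1, S.h_one⟩
  mul_mem' := by
    rintro _ _ ⟨c, rfl⟩ ⟨d, rfl⟩
    exact ⟨c * d, (S.h_mul _ _ _ _).symm⟩
  inv_mem' := by
    rintro _ ⟨c, rfl⟩
    exact ⟨c⁻¹, (S.h_inv _ _).symm⟩

/-- the centre of the Levi complement -/
def ZJ : Subgroup G where
  carrier := {g | ∃ c, S.h c c⁻¹ = g}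
  one_mem' := ⟨1, by rw [inv_one, S.h_one]⟩
  mul_mem' := by
    rintro _ _ ⟨c, rfl⟩ ⟨d, rfl⟩
    exact ⟨c * d, by rw [S.h_mul, mul_inv]⟩
  inv_mem' := by
    rintro _ ⟨c, rfl⟩
    exact ⟨c⁻¹, by rw [S.h_inv]⟩

theorem TM_le_T : TM S ≤ S.T := by
  rintro _ ⟨c, rfl⟩
  exact S.mem_T.2 ⟨c, c, rfl⟩

theorem ZJ_le_T : ZJ S ≤ S.T := by
  rintro _ ⟨c, rfl⟩
  exact S.mem_T.2 ⟨c, c⁻¹, rfl⟩

theorem TM_le_LO : TM S ≤ S.LO := by
  rintro _ ⟨c, rfl⟩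
  exact S.h_mem_LO c

theorem T_comm {s t : G} (hs : s ∈ S.T) (ht : t ∈ S.T) : s * t = t * s := by
  obtain ⟨c, d, rfl⟩ := S.mem_T.1 hs
  obtain ⟨c', d', rfl⟩ := S.mem_T.1 ht
  rw [S.h_mul, S.h_mul, mul_comm c, mul_comm d]

theorem h_TM (c : Fˣ) : S.h c c ∈ TM S := ⟨c, rfl⟩
theorem h_ZJ (c : Fˣ) : S.h c c⁻¹ ∈ ZJ S := ⟨c, rfl⟩

include S in
/-- square roots -/
theorem exists_sq [Finite F] (c : Fˣ) : ∃ d : Fˣ, d * d = c := by
  obtain ⟨y, hy⟩ := σ_surj σ (c : F)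
  obtain ⟨z, hz⟩ := σ_surj σ y
  have h1 : z * z = c := by rw [← pow_two, ← S.sq, hz, hy]
  have hz0 : z ≠ 0 := by
    rintro rfl
    rw [mul_zero] at h1
    exact c.ne_zero h1.symm
  exact ⟨Units.mk0 z hz0, Units.ext h1⟩

/-- `T = TM ZJ` -/
theorem T_split [Finite F] {t : G} (ht : t ∈ S.T) : ∃ a ∈ TM S, ∃ z ∈ ZJ S, t = a * z := by
  obtain ⟨c, d, rfl⟩ := S.mem_T.1 ht
  obtain ⟨a, ha⟩ := exists_sq S (c * d)
  refine ⟨S.h a a, h_TM S a, S.h (c * a⁻¹) (c * a⁻¹)⁻¹, h_ZJ S _, ?_⟩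
  rw [S.h_mul]
  congr 1
  · rw [mul_comm c, mul_inv_cancel_left]
  · rw [mul_inv_rev, inv_inv, ← mul_assoc, ha, mul_comm c d, mul_inv_cancel_right]

/-- `ZJ` centralises `X_1` and `X_9` -/
theorem ZJ_X1 {z : G} (hz : z ∈ ZJ S) {x : G} (hx : x ∈ S.XZ 1) : z * x = x * z := by
  obtain ⟨c, rfl⟩ := hz
  obtain ⟨t, rfl⟩ := S.X1 hx
  rw [← mul_inv_eq_iff_eq_mul, S.h_o]
  have : chO σ 0 c c⁻¹ = 1 := by
    show chE σ 0 c c⁻¹ * chE σ (0 + 1) c c⁻¹ = 1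
    rw [zero_add, chE_zero, chE_one, mul_inv_cancel]
  rw [this, Units.val_one, one_mul]

theorem ZJ_X9 {z : G} (hz : z ∈ ZJ S) {x : G} (hx : x ∈ S.XZ 9) : z * x = x * z := by
  obtain ⟨c, rfl⟩ := hz
  obtain ⟨t, rfl⟩ := S.X9 hx
  rw [← mul_inv_eq_iff_eq_mul, S.h_o]
  have : chO σ 4 c c⁻¹ = 1 := by
    show chE σ 4 c c⁻¹ * chE σ 5 c c⁻¹ = 1
    rw [chE_four, chE_five, inv_inv, inv_mul_cancel]
  rw [this, Units.val_one, one_mul]

theorem ZJ_LO {z : G} (hz : z ∈ ZJ S) {x : G} (hx : x ∈ S.LO) : z * x = x * z := by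
  have h1 : S.LO ≤ Subgroup.centralizer {z} := sup_le
    (fun y hy => Subgroup.mem_centralizer_singleton_iff.2 (ZJ_X1 S hz hy).symm)
    (fun y hy => Subgroup.mem_centralizer_singleton_iff.2 (ZJ_X9 S hz hy).symm)
  exact (Subgroup.mem_centralizer_singleton_iff.1 (h1 hx)).symm

/-- `ZJ ∩ LO = 1` -/
theorem ZJ_inf_LO {z : G} (hz : z ∈ ZJ S) (hz' : z ∈ S.LO) : z = 1 := by
  obtain ⟨c, rfl⟩ := hz
  have h1 := S.mem_centralizer_X5.1 (S.LO_le_cent hz') 1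
  rw [← mul_inv_eq_iff_eq_mul, S.h_o, mul_one] at h1
  have h2 : chO σ 2 c c⁻¹ = 1 := Units.ext (S.injO 2 h1)
  have h3 : (Units.map (σ : F →* F) c⁻¹ / c) * (c⁻¹ / Units.map (σ : F →* F) c) = 1 := h2
  have h4 : (c⁻¹ * c⁻¹) * Units.map (σ : F →* F) (c⁻¹ * c⁻¹) = 1 := by
    have hs : Units.map (σ : F →* F) c⁻¹ = (Units.map (σ : F →* F) c)⁻¹ := map_inv _ _
    rw [← h3, map_mul, hs, div_eq_mul_inv, div_eq_mul_inv]
    generalize (Units.map (σ : F →* F) c)⁻¹ = v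
    rw [mul_mul_mul_comm, mul_comm v]
  have h5 : c⁻¹ = 1 := unit_sq S (S.unit_eq_one h4)
  rw [inv_eq_one] at h5
  rw [h5, inv_one, S.h_one]

section fin

variable [Finite F] (hF : ∃ c : Fˣ, c ≠ 1)

include hF in
/-- an element of the torus that centralises `LO` and acts without fixed points on `⟨X_2, …, X_8⟩` -/
theorem exists_z0 : ∃ z0 ∈ S.T, (∀ x ∈ S.LO, z0 * x * z0⁻¹ = x) ∧ ∀ y ∈ J S.XZ 2 8, z0 * y * z0⁻¹ = y → y = 1 := by
  obtain ⟨w, hw⟩ := hF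
  obtain ⟨h, hT, h1, h2⟩ := exists_tt S hw 1
  refine ⟨h, hT, ?_, ?_⟩
  · have h3 : S.LO ≤ Subgroup.centralizer {h} := by
      refine sup_le (fun y hy => ?_) (fun y hy => ?_)
      · rw [Subgroup.mem_centralizer_singleton_iff]
        exact (mul_inv_eq_iff_eq_mul.1 (h1 1 (by norm_num) y hy)).symm
      · rw [Subgroup.mem_centralizer_singleton_iff]
        exact (mul_inv_eq_iff_eq_mul.1 (h1 9 (by norm_num) y hy)).symm
    intro x hx
    rw [← Subgroup.mem_centralizer_singleton_iff.1 (h3 hx), mul_inv_cancel_right]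
  · intro y hy hyf
    have h4 : y ∈ S.XZ 1 := mem_X_of_tt S hT h2 (a := 1) (b := 8) (by norm_num) (by norm_num) (by norm_num)
      (J_mono (by norm_num) le_rfl hy) hyf
    exact S.zsys8.inter 1 y h4 (J_mono (by norm_num) (by norm_num) hy)

/-- the parabolic subgroup -/
def PP : Subgroup G := S.T ⊔ J S.XZ 1 9

/-- the kernel of `PP → LO` -/
def N1 : Subgroup G := ZJ S ⊔ J S.XZ 2 8

theorem T_le_PP : S.T ≤ PP S := le_sup_left
theorem J_le_PP : J S.XZ 1 9 ≤ PP S := le_sup_right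
theorem LO_le_PP : S.LO ≤ PP S := S.LO_le_J.trans (J_le_PP S)
theorem ZJ_le_PP : ZJ S ≤ PP S := (ZJ_le_T S).trans (T_le_PP S)
theorem N1_le_PP : N1 S ≤ PP S :=
  sup_le (ZJ_le_PP S) ((J_mono (by norm_num) (by norm_num)).trans (J_le_PP S))

theorem N1_form {x : G} (hx : x ∈ N1 S) : ∃ z ∈ ZJ S, ∃ y ∈ J S.XZ 2 8, x = z * y :=
  mem_sup_of_norm (fun _ ha _ hb => S.T_conj_J (ZJ_le_T S ha) hb) hx

/-- `PP = LO N1` -/
theorem PP_form {x : G} (hx : x ∈ PP S) : ∃ l ∈ S.LO, ∃ n ∈ N1 S, x = l * n := by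
  obtain ⟨t, ht, y, hy, rfl⟩ := mem_sup_of_norm (fun a ha b hb => S.T_conj_J ha hb) hx
  obtain ⟨a, ha, z, hz, rfl⟩ := T_split S ht
  obtain ⟨l, hl, q, hq, rfl⟩ := S.J19_split hy
  refine ⟨a * l, mul_mem (TM_le_LO S ha) hl, z * q, mul_mem (Subgroup.mem_sup_left hz) (Subgroup.mem_sup_right hq), ?_⟩
  calc a * z * (l * q) = a * (z * l) * q := by group
    _ = a * l * (z * q) := by rw [ZJ_LO S hz hl]; group

/-- `PP = ZJ J` -/
theorem PP_form' {x : G} (hx : x ∈ PP S) : ∃ z ∈ ZJ S, ∃ y ∈ J S.XZ 1 9, x = z * y := by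
  obtain ⟨t, ht, y, hy, rfl⟩ := mem_sup_of_norm (fun a ha b hb => S.T_conj_J ha hb) hx
  obtain ⟨a, ha, z, hz, rfl⟩ := T_split S ht
  refine ⟨z, hz, a * y, mul_mem (S.LO_le_J (TM_le_LO S ha)) hy, ?_⟩
  rw [T_comm S (TM_le_T S ha) (ZJ_le_T S hz), mul_assoc]

theorem N1_norm {x n : G} (hx : x ∈ PP S) (hn : n ∈ N1 S) : x * n * x⁻¹ ∈ N1 S := by
  obtain ⟨l, hl, n', hn', rfl⟩ := PP_form S hx
  have h1 : n' * n * n'⁻¹ ∈ N1 S := mul_mem (mul_mem hn' hn) (inv_mem hn')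
  obtain ⟨z, hz, q, hq, h2⟩ := N1_form S h1
  have e : l * n' * n * (l * n')⁻¹ = z * (l * q * l⁻¹) := by
    calc l * n' * n * (l * n')⁻¹ = l * (n' * n * n'⁻¹) * l⁻¹ := by group
      _ = (l * z) * q * l⁻¹ := by rw [h2]; group
      _ = z * (l * q * l⁻¹) := by rw [← ZJ_LO S hz hl]; group
  rw [e]
  exact mul_mem (Subgroup.mem_sup_left hz) (Subgroup.mem_sup_right
    (S.zsys8.conj_J (a := 2) (b := 8) (c := 1) (d := 9) (by norm_num) (by norm_num) (by norm_num) (S.LO_le_J hl) hq))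

theorem J19_norm {x n : G} (hx : x ∈ PP S) (hn : n ∈ J S.XZ 1 9) : x * n * x⁻¹ ∈ J S.XZ 1 9 := by
  obtain ⟨z, hz, y, hy, rfl⟩ := PP_form' S hx
  have e : z * y * n * (z * y)⁻¹ = z * (y * n * y⁻¹) * z⁻¹ := by group
  rw [e]
  exact S.T_conj_J (ZJ_le_T S hz) (mul_mem (mul_mem hy hn) (inv_mem hy))

include hF in
theorem LO_inf_N1 {x : G} (hx : x ∈ S.LO) (hx' : x ∈ N1 S) : x = 1 := by
  obtain ⟨z0, h0, h1, h2⟩ := exists_z0 S hF
  obtain ⟨z, hz, q, hq, rfl⟩ := N1_form S hx'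
  have hc : z0 * z = z * z0 := T_comm S h0 (ZJ_le_T S hz)
  have h3 := h1 _ hx
  have h4 : z0 * q * z0⁻¹ = q := by
    have e : z0 * (z * q) * z0⁻¹ = z * (z0 * q * z0⁻¹) := by
      rw [← mul_assoc, hc]; group
    rw [e] at h3
    exact mul_left_cancel h3
  have h5 := h2 q hq h4
  rw [h5, mul_one] at hx ⊢
  exact ZJ_inf_LO S hz hx

include hF in
theorem ZJ_inf_J {x : G} (hx : x ∈ ZJ S) (hx' : x ∈ J S.XZ 1 9) : x = 1 := by
  obtain ⟨z0, h0, h1, h2⟩ := exists_z0 S hF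
  obtain ⟨l, hl, q, hq, rfl⟩ := S.J19_split hx'
  have h3 : z0 * (l * q) = l * q * z0 := T_comm S h0 (ZJ_le_T S hx)
  have h4 : z0 * q * z0⁻¹ = q := by
    have h5 := h1 l hl
    have h6 : (z0 * l * z0⁻¹) * (z0 * q * z0⁻¹) = l * q := by
      calc (z0 * l * z0⁻¹) * (z0 * q * z0⁻¹) = (z0 * (l * q)) * z0⁻¹ := by group
        _ = l * q := by rw [h3, mul_inv_cancel_right]
    rw [h5] at h6
    exact mul_left_cancel h6
  have h5 := h2 q hq h4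
  rw [h5, mul_one] at hx ⊢
  exact ZJ_inf_LO S hx hl

include hF in
/-- `ZJ ∩ J 2 8 = 1` -/
theorem ZJ_inf_J28 {x : G} (hx : x ∈ ZJ S) (hx' : x ∈ J S.XZ 2 8) : x = 1 :=
  ZJ_inf_J S hF hx (J_mono (by norm_num) (by norm_num) hx')

end fin

/-! ### the rank one group `LO` -/

/-- the Borel subgroup of `LO` -/
def BM : Subgroup G := TM S ⊔ S.XZ 1

theorem BM_form {b : G} (hb : b ∈ BM S) : ∃ x ∈ S.XZ 1, ∃ t ∈ TM S, b = x * t := by
  obtain ⟨t, ht, x, hx, rfl⟩ := mem_sup_of_norm (fun a ha b hb => S.T_conj (TM_le_T S ha) 1 hb) hb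
  exact ⟨t * x * t⁻¹, S.T_conj (TM_le_T S ht) 1 hx, t, ht, by group⟩

theorem BM_norm {b x : G} (hb : b ∈ BM S) (hx : x ∈ S.XZ 1) : b * x * b⁻¹ ∈ S.XZ 1 := by
  obtain ⟨y, hy, t, ht, rfl⟩ := BM_form S hb
  have e : y * t * x * (y * t)⁻¹ = y * (t * x * t⁻¹) * y⁻¹ := by group
  rw [e]
  exact mul_mem (mul_mem hy (S.T_conj (TM_le_T S ht) 1 hx)) (inv_mem hy)

theorem BM_le_LO : BM S ≤ S.LO := sup_le (TM_le_LO S) le_sup_left

theorem n1_X1 (t : F) : S.n1 * S.o 0 t * S.n1⁻¹ = S.o 4 t := by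
  have := S.n1_o 0 t
  rwa [sub_zero] at this

theorem n1_X9 (t : F) : S.n1 * S.o 4 t * S.n1⁻¹ = S.o 0 t := by
  have := S.n1_o 4 t
  rwa [sub_self] at this

theorem n1_not_mem : S.n1 ∉ BM S := by
  intro h
  have h1 := BM_norm S h (S.mX1 1)
  rw [n1_X1] at h1
  have h2 := S.X_inf_opp (i := 1) h1 (S.mX9 1)
  exact one_ne_zero (S.o_eq_one h2)

/-- the key relation -/
theorem key_rel (c : Fˣ) : S.o 4 ((c * c)⁻¹ : Fˣ) =
    S.o 0 (c * c : Fˣ) * S.n1 * (S.h (c * c)⁻¹ (c * c)⁻¹ * S.o 0 (c * c : Fˣ)) := by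
  -- `o 4 1 = o 0 1 n1 o 0 1`
  have h1 : S.o 4 1 = S.o 0 1 * S.n1 * S.o 0 1 := by
    have h := S.n1_word
    have h2 : S.o 0 1 * S.o 0 1 = 1 := by
      rw [S.o_add, char2 S, S.o_zero]
    calc S.o 4 1 = (S.o 0 1 * S.o 0 1) * S.o 4 1 * (S.o 0 1 * S.o 0 1) := by rw [h2, one_mul, mul_one]
      _ = S.o 0 1 * (S.o 0 1 * S.o 4 1 * S.o 0 1) * S.o 0 1 := by group
      _ = _ := by rw [← h]
  have h3 : S.h c c * S.o 4 1 * (S.h c c)⁻¹ = S.o 4 ((c * c)⁻¹ : Fˣ) := by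
    have h6 : chO σ 4 c c = (c * c)⁻¹ := by
      show chE σ 4 c c * chE σ 5 c c = _
      rw [chE_four, chE_five, mul_inv]
    rw [S.h_o, mul_one, h6]
  have h4 : S.h c c * S.o 0 1 * (S.h c c)⁻¹ = S.o 0 (c * c : Fˣ) := by
    rw [S.h_o, mul_one]
    rfl
  have h5 : S.h c c * S.n1 * (S.h c c)⁻¹ = S.n1 * S.h (c * c)⁻¹ (c * c)⁻¹ := by
    have h6 : S.n1⁻¹ * S.h c c * S.n1 = S.h c⁻¹ c⁻¹ := by
      have h7 := Arc.n1_h S c c
      rw [Arc.n1_inv S] at h7 ⊢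
      exact h7
    calc S.h c c * S.n1 * (S.h c c)⁻¹ = S.n1 * (S.n1⁻¹ * S.h c c * S.n1) * (S.h c c)⁻¹ := by group
      _ = S.n1 * (S.h c⁻¹ c⁻¹ * S.h c⁻¹ c⁻¹) := by rw [h6, S.h_inv]; group
      _ = _ := by rw [S.h_mul, mul_inv]
  rw [← h3, h1]
  calc S.h c c * (S.o 0 1 * S.n1 * S.o 0 1) * (S.h c c)⁻¹ =
      (S.h c c * S.o 0 1 * (S.h c c)⁻¹) * (S.h c c * S.n1 * (S.h c c)⁻¹) * (S.h c c * S.o 0 1 * (S.h c c)⁻¹) := by group
    _ = _ := by rw [h4, h5]; group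

/-- `X_9 ⊆ BM ∪ X_1 n1 BM` -/
theorem X9_form [Finite F] {y : G} (hy : y ∈ S.XZ 9) (hy1 : y ≠ 1) :
    ∃ x ∈ S.XZ 1, ∃ b ∈ BM S, y = x * S.n1 * b := by
  obtain ⟨t, rfl⟩ := S.X9 hy
  have ht : t ≠ 0 := by
    rintro rfl
    exact hy1 (S.o_zero 4)
  obtain ⟨c, hc⟩ := exists_sq S (Units.mk0 t ht)⁻¹
  refine ⟨_, S.mX1 (c * c : Fˣ), _, mul_mem (Subgroup.mem_sup_left (h_TM S (c * c)⁻¹))
    (Subgroup.mem_sup_right (S.mX1 (c * c : Fˣ))), ?_⟩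
  rw [← key_rel, hc, inv_inv, Units.val_mk0]

/-- `X_9 ∩ BM = 1` -/
theorem X9_inf_BM [Finite F] {y : G} (hy : y ∈ S.XZ 9) (hb : y ∈ BM S) : y = 1 := by
  by_contra h
  obtain ⟨x, hx, b, hb', h1⟩ := X9_form S hy h
  apply n1_not_mem S
  have e : S.n1 = x⁻¹ * y * b⁻¹ := by rw [h1]; group
  rw [e]
  exact mul_mem (mul_mem (inv_mem (Subgroup.mem_sup_right hx)) hb) (inv_mem hb')

/-- **the Bruhat decomposition of `LO`** -/
theorem LO_bruhat [Finite F] {g : G} (hg : g ∈ S.LO) : g ∈ BM S ∨ ∃ x ∈ S.XZ 1, ∃ b ∈ BM S, g = x * S.n1 * b := by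
  let Ω : Set G := {g | g ∈ BM S ∨ ∃ x ∈ S.XZ 1, ∃ b ∈ BM S, g = x * S.n1 * b}
  have hX1 : ∀ x ∈ S.XZ 1, ∀ ω ∈ Ω, x * ω ∈ Ω := by
    rintro x hx ω (h | ⟨y, hy, b, hb, rfl⟩)
    · exact Or.inl (mul_mem (Subgroup.mem_sup_right hx) h)
    · exact Or.inr ⟨x * y, mul_mem hx hy, b, hb, by group⟩
  have hn : ∀ ω ∈ Ω, S.n1 * ω ∈ Ω := by
    rintro ω (h | ⟨y, hy, b, hb, rfl⟩)
    · exact Or.inr ⟨1, one_mem _, ω, h, by group⟩
    · have e : S.n1 * (y * S.n1 * b) = (S.n1 * y * S.n1⁻¹) * b := by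
        rw [Arc.n1_inv S]; group
      obtain ⟨t, rfl⟩ := S.X1 hy
      rw [e, n1_X1]
      by_cases h1 : S.o 4 t = 1
      · rw [h1, one_mul]
        exact Or.inl hb
      · obtain ⟨x, hx, b', hb', h2⟩ := X9_form S (S.mX9 t) h1
        exact Or.inr ⟨x, hx, b' * b, mul_mem hb' hb, by rw [h2]; group⟩
  have hX9 : ∀ x ∈ S.XZ 9, ∀ ω ∈ Ω, x * ω ∈ Ω := by
    intro x hx ω hω
    obtain ⟨t, rfl⟩ := S.X9 hx
    have e : S.o 4 t * ω = S.n1 * (S.o 0 t * (S.n1 * ω)) := by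
      rw [← n1_X1, Arc.n1_inv S]; group
    rw [e]
    exact hn _ (hX1 _ (S.mX1 t) _ (hn _ hω))
  have key : ∀ A : Subgroup G, (∀ x ∈ A, ∀ ω ∈ Ω, x * ω ∈ Ω) → A ≤ MulAction.stabilizer G Ω := by
    intro A hA x hx
    rw [MulAction.mem_stabilizer_iff]
    apply Set.Subset.antisymm
    · rintro _ ⟨ω, hω, rfl⟩
      exact hA x hx ω hω
    · intro ω hω
      exact ⟨x⁻¹ * ω, hA _ (inv_mem hx) ω hω, by simp⟩
  have h1 : S.LO ≤ MulAction.stabilizer G Ω := sup_le (key _ hX1) (key _ hX9)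
  have h2 := MulAction.mem_stabilizer_iff.1 (h1 hg)
  have h3 : g * 1 ∈ Ω := by
    rw [← h2]
    exact ⟨1, Or.inl (one_mem _), rfl⟩
  rwa [mul_one] at h3

/-- the Borel subgroup in `LO` -/
def HH : Subgroup ↥S.LO := (BM S).subgroupOf S.LO

/-- its unipotent radical -/
def UU : Subgroup ↥S.LO := (S.XZ 1).subgroupOf S.LO

/-- the reflection in `LO` -/
def nn : ↥S.LO := ⟨S.n1, S.n1_mem_LO⟩

theorem mem_HH {x : ↥S.LO} : x ∈ HH S ↔ (x : G) ∈ BM S := Subgroup.mem_subgroupOf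
theorem mem_UU {x : ↥S.LO} : x ∈ UU S ↔ (x : G) ∈ S.XZ 1 := Subgroup.mem_subgroupOf

/-- **the rank one data** -/
theorem data [Finite F] : Data (HH S) (UU S) (nn S) where
  w_not_mem := n1_not_mem S
  le := fun x hx => (mem_HH S).2 (Subgroup.mem_sup_right ((mem_UU S).1 hx))
  norm := fun _ hh _ hs => BM_norm S hh hs
  bruhat := by
    intro g hg
    rcases LO_bruhat S g.2 with h | ⟨x, hx, b, hb, h⟩
    · exact absurd h hg
    · refine ⟨⟨x, Subgroup.mem_sup_left hx⟩, hx, ?_⟩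
      rw [mem_HH]
      have e : (((⟨x, Subgroup.mem_sup_left hx⟩ * nn S)⁻¹ * g : ↥S.LO) : G) = b := by
        show (x * S.n1)⁻¹ * (g : G) = b
        rw [h]; group
      rw [e]
      exact hb
  inter := by
    intro s hs h
    rw [mem_UU] at hs
    rw [mem_HH] at h
    obtain ⟨t, ht⟩ := S.X1 hs
    have e : (((nn S)⁻¹ * s * nn S : ↥S.LO) : G) = S.o 4 t := by
      show S.n1⁻¹ * (s : G) * S.n1 = _
      rw [← ht]
      have := n1_X1 S t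
      rw [Arc.n1_inv S] at this ⊢
      exact this
    rw [e] at h
    have h1 := S.o_eq_one (X9_inf_BM S (S.mX9 t) h)
    apply Subtype.ext
    rw [← ht, h1]
    exact S.o_zero 0

/-! ### orders -/

section card

/-- `|X_1| = q` -/
theorem card_X1 : Nat.card (S.XZ 1) = Nat.card F := by
  symm
  refine Nat.card_eq_of_bijective (fun t => (⟨S.o 0 t, S.mX1 t⟩ : S.XZ 1)) ⟨?_, ?_⟩
  · intro a b h
    exact S.injO 0 (congrArg Subtype.val h)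
  · rintro ⟨x, hx⟩
    obtain ⟨t, rfl⟩ := S.X1 hx
    exact ⟨t, rfl⟩

theorem card_TM : Nat.card (TM S) = Nat.card Fˣ := by
  symm
  refine Nat.card_eq_of_bijective (fun c => (⟨S.h c c, h_TM S c⟩ : TM S)) ⟨?_, ?_⟩
  · intro a b h
    exact (S.h_inj _ _ _ _ (congrArg Subtype.val h)).1
  · rintro ⟨x, c, rfl⟩
    exact ⟨c, rfl⟩

theorem card_ZJ : Nat.card (ZJ S) = Nat.card Fˣ := by
  symm
  refine Nat.card_eq_of_bijective (fun c => (⟨S.h c c⁻¹, h_ZJ S c⟩ : ZJ S)) ⟨?_, ?_⟩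
  · intro a b h
    exact (S.h_inj _ _ _ _ (congrArg Subtype.val h)).1
  · rintro ⟨x, c, rfl⟩
    exact ⟨c, rfl⟩

/-- `TM ∩ X_1 = 1` -/
theorem TM_inf_X1 {c : Fˣ} (h : S.h c c ∈ S.XZ 1) : c = 1 := by
  obtain ⟨t, ht⟩ := S.X1 h
  have h1 : S.h c c * S.o 0 1 * (S.h c c)⁻¹ = S.o 0 (c * c : Fˣ) := by
    rw [S.h_o, mul_one]; rfl
  rw [← ht, S.o_add, add_comm, ← S.o_add, mul_inv_cancel_right] at h1
  have h2 := S.injO 0 h1
  exact unit_sq S (Units.ext h2.symm)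

theorem card_BM : Nat.card (BM S) = Nat.card F * Nat.card Fˣ := by
  rw [← card_X1 S, ← card_TM S]
  refine card_of_proj le_sup_right le_sup_left ?_ fun x hx => ?_
  · rintro _ hx ⟨c, rfl⟩
    rw [TM_inf_X1 S hx, S.h_one]
  · obtain ⟨y, hy, t, ht, rfl⟩ := BM_form S hx
    exact ⟨y, hy, t, ht, rfl⟩

theorem card_HH : Nat.card (HH S) = Nat.card F * Nat.card Fˣ := by
  rw [← card_BM S]
  exact Nat.card_congr (Subgroup.subgroupOfEquivOfLe (BM_le_LO S)).toEquiv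

theorem card_UU : Nat.card (UU S) = Nat.card F := by
  rw [← card_X1 S]
  exact Nat.card_congr (Subgroup.subgroupOfEquivOfLe (show S.XZ 1 ≤ S.LO from le_sup_left)).toEquiv

variable [Finite F]

theorem card_LO [Finite G] : Nat.card S.LO = Nat.card F * Nat.card Fˣ * (Nat.card F + 1) := by
  rw [← (HH S).card_mul_index, (data S).index, card_HH, card_UU]

theorem card_PP (hF : ∃ c : Fˣ, c ≠ 1) [Finite G] : Nat.card (PP S) =
    (Nat.card F * Nat.card Fˣ * (Nat.card F + 1)) * (Nat.card Fˣ * Nat.card (J S.XZ 2 8)) := by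
  rw [← card_LO S]
  have h1 : Nat.card (N1 S) = Nat.card Fˣ * Nat.card (J S.XZ 2 8) := by
    rw [← card_ZJ S]
    exact card_of_proj le_sup_left le_sup_right (fun x hx hx' => ZJ_inf_J28 S hF hx hx') fun x hx => N1_form S hx
  rw [← h1]
  exact card_of_proj (LO_le_PP S) (N1_le_PP S) (fun x hx hx' => LO_inf_N1 S hF hx hx') fun x hx => PP_form S hx

end card

/-! ### the double cosets of `PP` -/

variable [Finite F]

theorem n1_mem_PP : S.n1 ∈ PP S := LO_le_PP S S.n1_mem_LO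

/-- **double cosets** -/
theorem dcoset {x : G} (hx : x ∉ PP S) : ∃ a ∈ PP S, ∃ b ∈ PP S, ∃ y, x = a * y * b ∧ ∃ c : ℤ, 1 ≤ c ∧ c ≤ 4 ∧
    Maps S.R.X y (fun k => ((2 * c : ℤ) : ZMod (2 * 8)) - k) := by
  obtain ⟨b, hb, t, ht, w, hw, b', hb', rfl⟩ := S.bruhatE x
  have hbP : b ∈ PP S := J_le_PP S (J_mono le_rfl (by norm_num) hb)
  have hbP' : b' ∈ PP S := J_le_PP S (J_mono le_rfl (by norm_num) hb')
  have htP : t ∈ PP S := T_le_PP S ht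
  have hnP := n1_mem_PP S
  have hwP : w ∉ PP S := fun h => hx (mul_mem (mul_mem (mul_mem hbP htP) h) hbP')
  have hn := S.n1_maps
  obtain ⟨c, hc | hc⟩ := hw
  · obtain ⟨c', h1, h2, h3⟩ := reduce c 0
    rw [h3] at hc
    rcases eq_or_lt_of_le h1 with h4 | h4
    · exfalso
      apply hwP
      apply T_le_PP
      show Maps S.R.X w id
      exact hc.congr fun k => by rw [← h4, mul_zero, Int.cast_zero, zero_add]; rfl
    rcases le_or_gt c' 4 with h5 | h5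
    · refine ⟨b * t * S.n1⁻¹, mul_mem (mul_mem hbP htP) (inv_mem hnP), b', hbP', S.n1 * w, by group, 5 - c', by omega,
        by omega, ?_⟩
      refine (hn.mul hc).congr fun k => ?_
      show (10 : ZMod (2 * 8)) - (((2 * c' : ℤ) : ZMod (2 * 8)) + k) = _
      push_cast
      ring
    · refine ⟨b * t, mul_mem hbP htP, S.n1⁻¹ * b', mul_mem (inv_mem hnP) hbP', w * S.n1, by group, c' - 3, by omega,
        by omega, ?_⟩
      refine (hc.mul hn).congr fun k => ?_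
      show ((2 * c' : ℤ) : ZMod (2 * 8)) + (10 - k) = _
      have e : (16 : ZMod (2 * 8)) = 0 := by decide
      push_cast
      linear_combination e
  · obtain ⟨c', h1, h2, h3⟩ := reduce c 1
    rw [h3] at hc
    rcases le_or_gt c' 4 with h5 | h5
    · exact ⟨b * t, mul_mem hbP htP, b', hbP', w, rfl, c', h1, h5, hc⟩
    rcases eq_or_lt_of_le (show 5 ≤ c' by omega) with h6 | h6
    · exfalso
      apply hwP
      have h7 : w * S.n1 ∈ S.T := by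
        show Maps S.R.X (w * S.n1) id
        refine (hc.mul hn).congr fun k => ?_
        show ((2 * c' : ℤ) : ZMod (2 * 8)) - (10 - k) = k
        rw [← h6]
        push_cast
        ring
      have e : w = (w * S.n1) * S.n1⁻¹ := by group
      rw [e]
      exact mul_mem (T_le_PP S h7) (inv_mem hnP)
    · refine ⟨b * t * S.n1⁻¹, mul_mem (mul_mem hbP htP) (inv_mem hnP), S.n1⁻¹ * b', mul_mem (inv_mem hnP) hbP',
        S.n1 * w * S.n1, by group, 10 - c', by omega, by omega, ?_⟩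
      refine ((hn.mul hc).mul hn).congr fun k => ?_
      show (10 : ZMod (2 * 8)) - (((2 * c' : ℤ) : ZMod (2 * 8)) - (10 - k)) = _
      push_cast
      ring

end Cfsg.Agent.H42.Deg.F4
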