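import Cfsg.Agent.H42.Deg.F4Main
import Cfsg.Agent.H53.HC.BigFacts

/-!
# `²F₄(q)`: `Big 2`, independence and triangles in the degree graph
-/

set_option autoImplicit false

namespace Cfsg.Agent.H42.Deg.F4

open Cfsg Cfsg.Agent.H53.HC

/-- **the big character** in the form of `H53.HC` -/
theorem big2 {S : Type*} [Group S] [Finite S] (h : Lie.Iso2F4 S) : Big 2 S := by
  obtain ⟨χ, hχ⟩ := big h
  exact ⟨χ, χ.2, charDegree (χ : S → ℂ), Cfsg.Agent.Blocks.Basic.irr_one_eq_charDegree χ.2,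
    fun ℓ hℓ h1 h2 => hχ ℓ hℓ h2 h1⟩

/-- three odd primes -/
theorem exists_three {S : Type*} [Group S] (h : Lie.Iso2F4 S) : ∃ p q s : ℕ, p.Prime ∧ q.Prime ∧ s.Prime ∧
    p ≠ q ∧ q ≠ s ∧ p ≠ s ∧ p ∣ Nat.card S ∧ q ∣ Nat.card S ∧ s ∣ Nat.card S ∧ p ≠ 2 ∧ q ≠ 2 ∧ s ≠ 2 := by
  obtain ⟨K, _, _, m, hm, hK, ⟨e⟩⟩ := h
  rw [Nat.card_congr e.toEquiv, Cfsg.Agent.S1068.result hK]
  have h8 : 2 ^ 3 ≤ 2 ^ (2 * m + 1) := Nat.pow_le_pow_right (by norm_num) (by omega)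
  have h3 : 2 ^ (2 * m + 1) % 3 = 2 := by
    rw [pow_succ, pow_mul, Nat.mul_mod, Nat.pow_mod]
    norm_num
  have h2 : 2 ^ (2 * m + 1) % 2 = 0 := by rw [pow_succ]; omega
  generalize 2 ^ (2 * m + 1) = q at *
  obtain ⟨k, rfl⟩ : ∃ k, q = k + 1 := ⟨q - 1, by omega⟩
  have hk : k + 1 - 1 = k := rfl
  obtain ⟨a, ha, had⟩ := Nat.exists_prime_and_dvd (n := k) (by omega)
  obtain ⟨b, hb, hbd⟩ := Nat.exists_prime_and_dvd (n := (k + 1) ^ 2 + 1) (by nlinarith)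
  have ha2 : a ≠ 2 := by
    rintro rfl
    omega
  have ha3 : a ≠ 3 := by
    rintro rfl
    omega
  have hb2 : b ≠ 2 := by
    rintro rfl
    have h5 : ((k + 1) ^ 2 + 1) % 2 = 1 := by rw [Nat.add_mod, Nat.pow_mod, h2]
    omega
  have hb3 : b ≠ 3 := by
    rintro rfl
    have h5 : ((k + 1) ^ 2 + 1) % 3 = 2 := by rw [Nat.add_mod, Nat.pow_mod, h3]
    omega
  have hab : a ≠ b := by
    rintro rfl
    have h5 : (k + 1) ^ 2 + 1 = k * (k + 2) + 2 := by ring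
    rw [h5] at hbd
    exact ha2 ((Nat.prime_dvd_prime_iff_eq ha Nat.prime_two).1 ((Nat.dvd_add_right (had.mul_right _)).1 hbd))
  have e4 : (k + 1) ^ 4 - 1 = k * (k + 2) * ((k + 1) ^ 2 + 1) := by
    have : (k + 1) ^ 4 = k * (k + 2) * ((k + 1) ^ 2 + 1) + 1 := by ring
    omega
  have e3 : (k + 1) ^ 3 + 1 = (k + 2) * (k * (k + 1) + 1) := by ring
  rw [e4, e3, hk]
  have h3d : 3 ∣ k + 2 := by omega
  refine ⟨a, b, 3, ha, hb, Nat.prime_three, hab, hb3, ha3, ?_, ?_, ?_, ha2, hb2, by norm_num⟩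
  · exact Dvd.dvd.mul_right (Dvd.dvd.mul_right (Dvd.dvd.mul_right (had.mul_left _) _) _) _
  · exact Dvd.dvd.mul_right (Dvd.dvd.mul_left (hbd.mul_left _) _) _
  · exact Dvd.dvd.mul_right (Dvd.dvd.mul_left (Dvd.dvd.mul_right (h3d.mul_left _) _) _) _

open Cfsg.Agent.H671.H5

/-- **(Ind)** -/
theorem ind (S : Type*) [Group S] [Finite S] (h : Lie.Iso2F4 S) : ∀ p ∈ degreePrimes S, ∀ q ∈ degreePrimes S,
    ∀ r ∈ degreePrimes S, p ≠ q → q ≠ r → p ≠ r → Adj p q S ∨ Adj q r S ∨ Adj p r S :=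
  fun _ hp _ hq _ hr h1 h2 h3 => (big2 h).ind hp hq hr h1 h2 h3

/-- **(Tri)** -/
theorem tri (S : Type*) [Group S] [Finite S] (h : Lie.Iso2F4 S) : ∃ p q r : ℕ, Adj p q S ∧ Adj q r S ∧ Adj p r S := by
  obtain ⟨p, q, s, hp, hq, hs, e1, e2, e3, d1, d2, d3, n1, n2, n3⟩ := exists_three h
  exact (big2 h).tri hp hq hs e1 e2 e3 d1 d2 d3 n1 n2 n3

end Cfsg.Agent.H42.Deg.F4
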