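import Cfsg.Agent.H42.Deg.F4Big
import Cfsg.Agent.H42.Deg.F4LeviB

/-!
# A second irreducible character of `²F₄(q)` whose degree is divisible by all odd primes

`exists_big` : the character Harish-Chandra induced from `PB = (L4 × ZE) ⟨X_1, …, X_7⟩`: a cuspidal character of
`L4 ≅ Sz(q)` times a linear character `ζ` of `ZE` with `ζ² ≠ 1`. Its degree is divisible by `|G : PB| (q - 1)`.
-/

set_option autoImplicit false
set_option linter.unusedSectionVars false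

namespace Cfsg.Agent.H42.Deg.F4B

open Cfsg Cfsg.Agent.Characters
open Cfsg.Agent.SplitTwo Cfsg.Agent.SplitTwo.ZS Cfsg.Agent.TitsThree.RankTwoZ Cfsg.Agent.SplitTwo.RootSysZ
open Cfsg.Agent.KFacts.TwF4 Cfsg.Agent.KFacts.TwF4.Arc Cfsg.Agent.KFacts.TwF4.SylU Cfsg.Agent.KFacts.TwF4.TorEx
open Cfsg.Agent.KFacts.TwF4.Full Cfsg.Agent.KFacts.TwF4.Irr Cfsg.Agent.LieRecognition.RankOneAbstract
open Cfsg.Agent.H42.Deg Cfsg.Agent.H42.Deg.F4
open scoped Pointwise ComplexConjugate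

universe u

variable {F : Type*} [Field F] {σ : F →+* F} {G : Type u} [Group G] (S : Full σ G)

/-- `BE / X_8` is abelian -/
theorem BE_comm {h k : G} (hh : h ∈ BE S) (hk : k ∈ BE S) : ∃ u ∈ S.XZ 8, h * k = k * h * u := by
  refine ⟨(k * h)⁻¹ * (h * k), ?_, by group⟩
  obtain ⟨x, hx, t, ht, rfl⟩ := BE_form S hh
  obtain ⟨y, hy, s, hs, rfl⟩ := BE_form S hk
  have hc : t * s = s * t := T_comm S (TE_le_T S ht) (TE_le_T S hs)
  have e : (y * s * (x * t))⁻¹ * (x * t * (y * s)) =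
      (s * t)⁻¹ * ((y * (s * x * s⁻¹))⁻¹ * (x * (t * y * t⁻¹))) * (s * t) := by
    calc (y * s * (x * t))⁻¹ * (x * t * (y * s)) =
        (s * t)⁻¹ * ((y * (s * x * s⁻¹))⁻¹ * (x * (t * y * t⁻¹))) * (t * s) := by group
      _ = _ := by rw [hc]
  rw [e]
  have h1 : (y * (s * x * s⁻¹))⁻¹ * (x * (t * y * t⁻¹)) ∈ S.XZ 8 :=
    mul_mem (inv_mem (mul_mem hy (S.T_conj (TE_le_T S hs) 8 hx))) (mul_mem hx (S.T_conj (TE_le_T S ht) 8 hy))
  exact S.T_conj' (mul_mem (TE_le_T S hs) (TE_le_T S ht)) 8 h1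

/-- the degree is divisible by the order of a subgroup on which the character vanishes off `1` -/
theorem dvd_of_vanish {L : Type*} [Group L] [Finite L] {θ : L → ℂ} (hθ : IsIrrCharacter L θ) (T : Subgroup L)
    (h : ∀ t ∈ T, t ≠ 1 → θ t = 0) : Nat.card T ∣ charDegree θ := by
  classical
  have := Fintype.ofFinite T
  obtain ⟨m, hm⟩ := Cfsg.Agent.H710.Cuspidal.exists_mult T hθ
  rw [Finset.sum_eq_single (1 : T)] at hm
  · rw [OneMemClass.coe_one, Cfsg.Agent.Blocks.Basic.irr_one_eq_charDegree hθ] at hm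
    have h1 : charDegree θ = Nat.card T * m := by exact_mod_cast hm
    exact ⟨m, h1⟩
  · intro t _ ht
    exact h t t.2 fun h1 => ht (Subtype.ext h1)
  · intro h1
    exact absurd (Finset.mem_univ _) h1

variable [Finite F] [Finite G] (hF : ∃ c : Fˣ, c ≠ 1)

include hF in
/-- a cuspidal character of `L4`; its degree is divisible by `q - 1` -/
theorem exists_theta : ∃ θ : ↥(L4 S) → ℂ, IsIrrCharacter ↥(L4 S) θ ∧ (∀ [Fintype (UB S)], ∑ u : UB S, θ u = 0) ∧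
    Nat.card F - 1 ∣ charDegree θ := by
  have := Fintype.ofFinite (UB S)
  obtain ⟨c, hc⟩ := id hF
  have hq : 0 < Nat.card F := Nat.card_pos
  set d : ↥(L4 S) := ⟨_, h_mem_L4 S c⟩ with hd
  have e1 : ((nb S * d * (nb S)⁻¹ : ↥(L4 S)) : G) = S.h (Units.map (σ : F →* F) c⁻¹) c⁻¹ := by
    show S.n2 * S.h (Units.map (σ : F →* F) c) c * S.n2⁻¹ = _
    rw [S.n2_h, map_map σ S.sq, map_inv, pow_two, div_mul_eq_div_div, div_self', one_div]
  obtain ⟨χ, hχ⟩ := Cfsg.Agent.H710.Cuspidal.exists_cuspidal (data S hF)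
    (fun h hh k hk => by
      obtain ⟨u, hu, h1⟩ := BE_comm S ((mem_HB S).1 hh) ((mem_HB S).1 hk)
      exact ⟨⟨u, X8_L4 S hu⟩, (mem_UB S).2 hu, Subtype.ext h1⟩)
    (d := d) ((mem_HB S).2 (Subgroup.mem_sup_left (h_TE S c)))
    (by
      rw [mem_HB, e1]
      exact Subgroup.mem_sup_left (h_TE S c⁻¹))
    (by
      intro h
      rw [mem_UB] at h
      have e2 : ((nb S * d * (nb S)⁻¹ * d⁻¹ : ↥(L4 S)) : G) =
          S.h (Units.map (σ : F →* F) (c⁻¹ * c⁻¹)) (c⁻¹ * c⁻¹) := by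
        rw [Subgroup.coe_mul, e1, Subgroup.coe_inv, hd, S.h_inv, S.h_mul, map_mul, map_inv]
      rw [e2] at h
      have h3 := X8_inf_T S h (TE_le_T S (h_TE S _))
      rw [← S.h_one] at h3
      have h2 := unit_sq S (S.h_inj _ _ _ _ h3).2
      exact hc (inv_eq_one.1 h2))
    (by
      rw [card_HB, card_UB, card_units]
      refine Nat.mul_lt_mul_of_pos_left ?_ (Nat.mul_pos hq hq)
      have : Nat.card F ≤ Nat.card F * Nat.card F := Nat.le_mul_of_pos_left _ hq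
      omega)
  refine ⟨χ, χ.2, ?_, ?_⟩
  · intro inst
    rw [← hχ]
    congr!
  · have h1 := dvd_of_vanish χ.2 ((TE S).subgroupOf (L4 S)) ?_
    · rwa [Nat.card_congr (Subgroup.subgroupOfEquivOfLe (TE_le_L4 S)).toEquiv, card_TE, card_units] at h1
    · rintro ⟨t, htL⟩ ht ht1
      obtain ⟨a, ha⟩ : ∃ a, S.h (Units.map (σ : F →* F) a) a = t := ht
      subst ha
      have ha1 : a ≠ 1 := by
        rintro rfl
        apply ht1
        apply Subtype.ext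
        show S.h (Units.map (σ : F →* F) 1) 1 = 1
        rw [map_one, S.h_one]
      obtain ⟨n, ρ, hρ, h⟩ := χ.2
      rw [← h] at hχ ⊢
      have hH : (⟨_, htL⟩ : ↥(L4 S)) ∈ HB S := (mem_HB S).2 (Subgroup.mem_sup_left (h_TE S a))
      refine Cfsg.Agent.H710.Cuspidal.zero_of_regular ρ (UB S) hχ
        (fun u => ⟨fun hu => (data S hF).norm _ hH u hu, fun hu => ?_⟩) ?_
      · have := (data S hF).norm _ (inv_mem hH) _ hu
        rw [inv_inv] at this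
        have e3 : (⟨_, htL⟩ : ↥(L4 S))⁻¹ * (⟨_, htL⟩ * u * (⟨_, htL⟩)⁻¹) * ⟨_, htL⟩ = u := by group
        rwa [e3] at this
      · intro u hu hcomm
        apply Subtype.ext
        have h1 : S.h (Units.map (σ : F →* F) a) a * (u : G) * (S.h (Units.map (σ : F →* F) a) a)⁻¹ = u := by
          have := congrArg Subtype.val hcomm
          rw [mul_inv_eq_iff_eq_mul]
          exact this
        obtain ⟨p, v, hpv⟩ := X8_exists S ((mem_UB S).1 hu)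
        rw [← hpv] at h1
        obtain ⟨rfl, rfl⟩ := fix_e S (a := 4) (by
          rw [chE_four]
          intro h4
          exact ha1 (map_inj S (inv_eq_one.1 h4))) h1
        rw [← hpv]
        exact S.e_zero 4

include hF in
/-- the linear character of `ZE` -/
theorem exists_zeta : ∃ ζ : ZE S →* ℂˣ, ∃ z, ζ z * ζ z ≠ 1 := by
  obtain ⟨c, hc⟩ := hF
  let _ : CommGroup (ZE S) := { (inferInstance : Group (ZE S)) with
    mul_comm := fun a b => Subtype.ext (T_comm S (ZE_le_T S a.2) (ZE_le_T S b.2)) }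
  have h1 : (⟨S.h 1 c, h_ZE S c⟩ * ⟨S.h 1 c, h_ZE S c⟩ : ZE S) ≠ 1 := by
    intro h
    have h2 : S.h 1 c * S.h 1 c = 1 := congrArg Subtype.val h
    rw [S.h_mul, ← S.h_one] at h2
    exact hc (unit_sq S (S.h_inj _ _ _ _ h2).2)
  obtain ⟨ζ, hζ⟩ := CommGroup.exists_apply_ne_one_of_hasEnoughRootsOfUnity (ZE S) ℂ h1
  exact ⟨ζ, _, by rwa [← map_mul]⟩

/-- conjugation with `rot ^ 4` inverts the torus -/
theorem rot4_T {t : G} (ht : t ∈ S.T) : S.rot ^ (-4 : ℤ) * t * (S.rot ^ (-4 : ℤ))⁻¹ = t⁻¹ := by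
  obtain ⟨c, d, rfl⟩ := S.mem_T.1 ht
  have key : ∀ a : ZMod 8, (S.rot ^ (-4 : ℤ) * S.h c d * (S.rot ^ (-4 : ℤ))⁻¹) * S.e a 1 0 *
      (S.rot ^ (-4 : ℤ) * S.h c d * (S.rot ^ (-4 : ℤ))⁻¹)⁻¹ = S.e a (chE σ (a + 4) c d) 0 := by
    intro a
    have e1 : S.rot ^ (4 : ℤ) * S.e a 1 0 * (S.rot ^ (4 : ℤ))⁻¹ = S.e (a + 4) 1 0 := by
      have := S.rotk_e 4 a 1 0
      exact_mod_cast this
    have e2 : ∀ p u, S.rot ^ (-4 : ℤ) * S.e (a + 4) p u * (S.rot ^ (-4 : ℤ))⁻¹ = S.e a p u := by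
      intro p u
      have := S.rotk_e (-4) (a + 4) p u
      rw [this]
      congr 1
      push_cast
      ring
    calc (S.rot ^ (-4 : ℤ) * S.h c d * (S.rot ^ (-4 : ℤ))⁻¹) * S.e a 1 0 *
        (S.rot ^ (-4 : ℤ) * S.h c d * (S.rot ^ (-4 : ℤ))⁻¹)⁻¹ =
        S.rot ^ (-4 : ℤ) * (S.h c d * (S.rot ^ (4 : ℤ) * S.e a 1 0 * (S.rot ^ (4 : ℤ))⁻¹) * (S.h c d)⁻¹) *
          (S.rot ^ (-4 : ℤ))⁻¹ := by group
      _ = _ := by rw [e1, S.h_e, e2, mul_one, mul_zero]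
  have h1 : S.rot ^ (-4 : ℤ) * S.h c d * (S.rot ^ (-4 : ℤ))⁻¹ ∈ S.T := by
    show Maps S.R.X _ id
    have hi : Maps S.R.X (S.rot ^ (-4 : ℤ))⁻¹ (fun k => ((2 * 4 : ℤ) : ZMod (2 * 8)) + k) := by
      have : (S.rot ^ (-4 : ℤ))⁻¹ = S.rot ^ (4 : ℤ) := by group
      rw [this]
      exact S.rot_maps 4
    refine (((S.rot_maps (-4)).mul ht).mul hi).congr fun k => ?_
    show ((2 * (-4) : ℤ) : ZMod (2 * 8)) + (((2 * 4 : ℤ) : ZMod (2 * 8)) + k) = k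
    push_cast
    ring
  rw [S.h_inv]
  refine h_eq_of S h1 ?_ ?_
  · rw [key 0, zero_add, chE_four]
  · rw [key 1, show (1 : ZMod 8) + 4 = 5 by decide, chE_five]

/-- the element `rot ^ 4 n2` acts as `k ↦ 16 - k` -/
theorem w0_maps : Maps S.R.X (S.rot ^ (4 : ℤ) * S.n2) (fun k => ((2 * 8 : ℤ) : ZMod (2 * 8)) - k) := by
  refine ((S.rot_maps 4).mul S.n2_maps).congr fun k => ?_
  show ((2 * 4 : ℤ) : ZMod (2 * 8)) + (8 - k) = ((2 * 8 : ℤ) : ZMod (2 * 8)) - k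
  push_cast
  ring

theorem w0_ZE {z : G} (hz : z ∈ ZE S) : (S.rot ^ (4 : ℤ) * S.n2)⁻¹ * z * (S.rot ^ (4 : ℤ) * S.n2) = z⁻¹ := by
  have h2 := rot4_T S (ZE_le_T S hz)
  obtain ⟨c, rfl⟩ := hz
  have h3 : S.n2⁻¹ * (S.h 1 c)⁻¹ * S.n2 = (S.h 1 c)⁻¹ := by
    have h7 := S.n2_h 1 c⁻¹
    rw [inv_one, map_one, div_one] at h7
    rw [S.h_inv, inv_one]
    rw [Arc.n2_inv S] at h7 ⊢
    exact h7
  calc (S.rot ^ (4 : ℤ) * S.n2)⁻¹ * S.h 1 c * (S.rot ^ (4 : ℤ) * S.n2) =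
      S.n2⁻¹ * (S.rot ^ (-4 : ℤ) * S.h 1 c * (S.rot ^ (-4 : ℤ))⁻¹) * S.n2 := by group
    _ = _ := by rw [h2, h3]

/-- an element acting as `k ↦ 16 - k` inverts `ZE` -/
theorem inv_ZE {y : G} (hy : Maps S.R.X y (fun k => ((2 * 8 : ℤ) : ZMod (2 * 8)) - k)) {z : G} (hz : z ∈ ZE S) :
    y⁻¹ * z * y = z⁻¹ := by
  have h1 := w0_maps S
  have h2 : Maps S.R.X (S.rot ^ (4 : ℤ) * S.n2)⁻¹ (fun k => ((2 * 8 : ℤ) : ZMod (2 * 8)) - k) :=
    h1.inv fun k => sub_sub_cancel _ k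
  have ht : (S.rot ^ (4 : ℤ) * S.n2)⁻¹ * y ∈ S.T := by
    show Maps S.R.X _ id
    exact (h2.mul hy).congr fun k => sub_sub_cancel _ k
  have e : y⁻¹ * z * y = ((S.rot ^ (4 : ℤ) * S.n2)⁻¹ * y)⁻¹ *
      ((S.rot ^ (4 : ℤ) * S.n2)⁻¹ * z * (S.rot ^ (4 : ℤ) * S.n2)) * ((S.rot ^ (4 : ℤ) * S.n2)⁻¹ * y) := by group
  rw [e, w0_ZE S hz, mul_assoc, ← T_comm S ht (ZE_le_T S (inv_mem hz)), inv_mul_cancel_left]

include hF in
/-- **the big character** -/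
theorem exists_big : ∃ χ : G → ℂ, IsIrrCharacter G χ ∧ (PB S).index * (Nat.card F - 1) ∣ charDegree χ := by
  classical
  have := Fintype.ofFinite G
  obtain ⟨θ, hθ, hθ0, hθd⟩ := exists_theta S hF
  obtain ⟨ζ, z1, hz1⟩ := exists_zeta S hF
  obtain ⟨πL, hL1, hL2⟩ := exists_proj (L4_le_PB S) (NB_le_PB S) (fun x hx y hy => NB_norm S hx hy)
    (fun x hx hx' => L4_inf_NB S hF hx hx') (fun x hx => PB_form S hx)
  obtain ⟨πZ, hZ1, hZ2⟩ := exists_proj (ZE_le_PB S) (J_le_PB S) (fun x hx y hy => J08_norm S hx hy)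
    (fun x hx hx' => ZE_inf_J S hF hx hx') (fun x hx => PB_form' S hx)
  have hsurj : Function.Surjective πL := fun l => ⟨⟨l, L4_le_PB S l.2⟩, hL1 l l.2⟩
  have hψ := Cfsg.Agent.CharactersDeep.ExtUnique.isIrr_mul_hom (Core.isIrr_comp πL hsurj hθ) (ζ.comp πZ)
  set ψ : ↥(PB S) → ℂ := fun g => (θ ∘ πL) g * (((ζ.comp πZ) g : ℂˣ) : ℂ) with hψdef
  -- the values of `ψ`
  have v1 : ψ 1 = θ 1 := by
    rw [hψdef]
    simp only [Function.comp, map_one, Units.val_one, mul_one]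
  have v17 : ∀ (g : G) (hg : g ∈ J S.XZ 1 7) (hg' : g ∈ PB S), ψ ⟨g, hg'⟩ = θ 1 := by
    intro g hg hg'
    have a1 : πL ⟨g, hg'⟩ = 1 := hL2 g (Subgroup.mem_sup_right hg)
    have a2 : πZ ⟨g, hg'⟩ = 1 := hZ2 g (J_mono (by norm_num) (by norm_num) hg)
    show θ (πL ⟨g, hg'⟩) * ((ζ (πZ ⟨g, hg'⟩) : ℂˣ) : ℂ) = θ 1
    rw [a1, a2, map_one, Units.val_one, mul_one]
  have vL4 : ∀ (g : G) (hg : g ∈ L4 S) (hg' : g ∈ PB S), ψ ⟨g, hg'⟩ = θ ⟨g, hg⟩ := by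
    intro g hg hg'
    have a1 : πL ⟨g, hg'⟩ = ⟨g, hg⟩ := hL1 g hg
    have a2 : πZ ⟨g, hg'⟩ = 1 := hZ2 g (L4_le_J S hg)
    show θ (πL ⟨g, hg'⟩) * ((ζ (πZ ⟨g, hg'⟩) : ℂˣ) : ℂ) = _
    rw [a1, a2, map_one, Units.val_one, mul_one]
  have vZ : ∀ (g : G) (hg : g ∈ ZE S) (hg' : g ∈ PB S), ψ ⟨g, hg'⟩ = θ 1 * ((ζ ⟨g, hg⟩ : ℂˣ) : ℂ) := by
    intro g hg hg'
    have a1 : πL ⟨g, hg'⟩ = 1 := hL2 g (Subgroup.mem_sup_left hg)
    have a2 : πZ ⟨g, hg'⟩ = ⟨g, hg⟩ := hZ1 g hg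
    show θ (πL ⟨g, hg'⟩) * ((ζ (πZ ⟨g, hg'⟩) : ℂˣ) : ℂ) = _
    rw [a1, a2]
  have hirr : IsIrrCharacter G (indFun (PB S) ψ) := by
    refine Cfsg.Agent.H53.HC.isIrr_indFun_rep (PB S) hψ fun x hx => ?_
    obtain ⟨a, ha, b, hb, y, hxy, c, hc1, hc4, hy⟩ := dcoset S hx
    refine ⟨a, ha, b, hb, y, hxy, ?_⟩
    have hyi : Maps S.R.X y⁻¹ (fun k => ((2 * c : ℤ) : ZMod (2 * 8)) - k) := hy.inv fun k => sub_sub_cancel _ k
    rcases eq_or_lt_of_le hc4 with hc | hc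
    · -- `c = 8`
      subst hc
      have hinv : ∀ l ∈ ZE S, y⁻¹ * l * y = l⁻¹ := fun l hl => inv_ZE S hy hl
      refine ⟨ZE S, ZE_le_PB S, fun l hl => by rw [hinv l hl]; exact inv_mem (ZE_le_PB S hl), ?_⟩
      intro _
      have e : ∀ l : ZE S, ψ ⟨l, ZE_le_PB S l.2⟩ * conj (ψ ⟨y⁻¹ * l * y, by
          rw [hinv l l.2]; exact inv_mem (ZE_le_PB S l.2)⟩) =
          (θ 1 * conj (θ 1)) * (((ζ l : ℂˣ) : ℂ) * ((ζ l : ℂˣ) : ℂ)) := by
        intro l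
        have e2 : (⟨y⁻¹ * l * y, by rw [hinv l l.2]; exact inv_mem (ZE_le_PB S l.2)⟩ : ↥(PB S)) =
            ⟨((l⁻¹ : ZE S) : G), ZE_le_PB S (l⁻¹ : ZE S).2⟩ := Subtype.ext (hinv l l.2)
        rw [e2, vZ _ l.2, vZ _ (l⁻¹ : ZE S).2, map_mul]
        have e3 : conj (((ζ ⟨((l⁻¹ : ZE S) : G), (l⁻¹ : ZE S).2⟩ : ℂˣ)) : ℂ) = ((ζ l : ℂˣ) : ℂ) := by
          have := conj_unit ζ l⁻¹
          rw [inv_inv] at this
          exact this
        rw [e3]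
        ring
      rw [Finset.sum_congr rfl fun l _ => e l, ← Finset.mul_sum]
      have h0 : ∑ l : ZE S, ((ζ l : ℂˣ) : ℂ) * ((ζ l : ℂˣ) : ℂ) = 0 := by
        refine sum_eq_zero (f := fun l : ZE S => ((ζ l : ℂˣ) : ℂ) * ((ζ l : ℂˣ) : ℂ)) (fun a b => ?_) (z := z1) ?_
        · simp only [map_mul, Units.val_mul]
          ring
        · intro h
          apply hz1
          apply Units.ext
          rw [Units.val_mul, Units.val_one]
          exact h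
      rw [h0, mul_zero]
    · -- `c = 5, 6, 7`
      have hmem : ∀ l ∈ S.XZ 8, y⁻¹ * l * y ∈ J S.XZ 1 7 := by
        intro l hl
        have h1 := S.map_sub hyi (mem_J hl le_rfl le_rfl)
        rw [inv_inv] at h1
        exact J_mono (by omega) (by omega) h1
      have hJP : J S.XZ 1 7 ≤ PB S := (J_mono (by norm_num) (by norm_num)).trans (J_le_PB S)
      refine ⟨S.XZ 8, (X8_L4 S).trans (L4_le_PB S), fun l hl => hJP (hmem l hl), ?_⟩
      intro _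
      have e : ∀ l : S.XZ 8, ψ ⟨l, L4_le_PB S (X8_L4 S l.2)⟩ * conj (ψ ⟨y⁻¹ * l * y, hJP (hmem l l.2)⟩) =
          θ ⟨l, X8_L4 S l.2⟩ * conj (θ 1) := by
        intro l
        rw [vL4 _ (X8_L4 S l.2), v17 _ (hmem l l.2)]
      rw [Finset.sum_congr rfl fun l _ => e l, ← Finset.sum_mul]
      have h0 : ∑ l : S.XZ 8, θ ⟨l, X8_L4 S l.2⟩ = 0 := by
        let _ : Fintype (UB S) := Fintype.ofFinite _
        let e : ↥(S.XZ 8) ≃ ↥(UB S) := (Subgroup.subgroupOfEquivOfLe (X8_L4 S)).symm.toEquiv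
        exact (Fintype.sum_equiv e (fun l : S.XZ 8 => θ ⟨l, X8_L4 S l.2⟩) (fun u : UB S => θ u) fun l => rfl).trans hθ0
      rw [h0, zero_mul]
  refine ⟨_, hirr, ?_⟩
  have hd := Cfsg.Agent.Blocks.Basic.irr_one_eq_charDegree hirr
  rw [Cfsg.Agent.H53.HC.indFun_one, v1, Cfsg.Agent.Blocks.Basic.irr_one_eq_charDegree hθ] at hd
  have hd' : charDegree (indFun (PB S) ψ) = (PB S).index * charDegree θ := by
    exact_mod_cast hd.symm
  rw [hd']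
  exact Nat.mul_dvd_mul_left _ hθd

end Cfsg.Agent.H42.Deg.F4B
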