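import Cfsg.Agent.H42.Deg.F4Main
import Cfsg.Agent.H42.Deg.F4St
import Cfsg.Agent.CharDeep.PowerDegrees
import Cfsg.Agent.H596.OneFacts

/-!
# `²F₄(q)`, `q > 2`: for every prime `p` dividing the order, two irreducible characters of different degrees divisible
by `p`

`two_2F4` : the row `²F₄(q)` of `H596.OneFacts.FactTwo`.
-/

set_option autoImplicit false

namespace Cfsg.Agent.H42.Deg.F4Two

open Cfsg Cfsg.Agent.SplitTwo Cfsg.Agent.SplitTwo.ZS Cfsg.Agent.TitsThree.RankTwoZ Cfsg.Agent.SplitTwo.RootSysZ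
open Cfsg.Agent.KFacts.TwF4 Cfsg.Agent.H42.Deg.F4

universe u

/-- the order -/
def od (q : ℕ) : ℕ := q ^ 12 * (q - 1) * (q ^ 3 + 1) * (q ^ 4 - 1) * (q ^ 6 + 1)

section arith

theorem eq4 {k : ℕ} : (k + 1) ^ 4 - 1 = k * (k + 2) * ((k + 1) ^ 2 + 1) := by
  have : (k + 1) ^ 4 = k * (k + 2) * ((k + 1) ^ 2 + 1) + 1 := by ring
  omega

variable {k n a b i j : ℕ} (hq : k + 1 = 2 ^ n) (hk : 0 < k)
  (hi : (k + 1) * (k + 1 - 1) * (k + 1 + 1) * ((k + 1 - 1) * 2 ^ a) * i = od (k + 1))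
  (hj : ((k + 1) * (k + 1)) * (k + 1 - 1) * ((k + 1) * (k + 1) + 1) * ((k + 1 - 1) * 2 ^ b) * j = od (k + 1))

include hk hi in
theorem eqi : (k + 1) * 2 ^ a * i = (k + 1) ^ 12 * (((k + 1) ^ 3 + 1) * ((k + 1) ^ 2 + 1) * ((k + 1) ^ 6 + 1)) := by
  unfold od at hi
  rw [eq4, Nat.add_sub_cancel] at hi
  have h5 : (k * k * (k + 2)) * ((k + 1) * 2 ^ a * i) =
      (k * k * (k + 2)) * ((k + 1) ^ 12 * (((k + 1) ^ 3 + 1) * ((k + 1) ^ 2 + 1) * ((k + 1) ^ 6 + 1))) := by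
    calc (k * k * (k + 2)) * ((k + 1) * 2 ^ a * i) = (k + 1) * k * (k + 1 + 1) * (k * 2 ^ a) * i := by ring
      _ = _ := by rw [hi]; ring
  exact Nat.eq_of_mul_eq_mul_left (by positivity) h5

include hk hj in
theorem eqj : (k + 1) * (k + 1) * 2 ^ b * j = (k + 1) ^ 12 * (((k + 1) ^ 3 + 1) * (k + 2) * ((k + 1) ^ 6 + 1)) := by
  unfold od at hj
  rw [eq4, Nat.add_sub_cancel] at hj
  have h5 : (k * k * ((k + 1) ^ 2 + 1)) * ((k + 1) * (k + 1) * 2 ^ b * j) =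
      (k * k * ((k + 1) ^ 2 + 1)) * ((k + 1) ^ 12 * (((k + 1) ^ 3 + 1) * (k + 2) * ((k + 1) ^ 6 + 1))) := by
    calc (k * k * ((k + 1) ^ 2 + 1)) * ((k + 1) * (k + 1) * 2 ^ b * j) =
        (k + 1) * (k + 1) * k * ((k + 1) * (k + 1) + 1) * (k * 2 ^ b) * j := by ring
      _ = _ := by rw [hj]; ring
  exact Nat.eq_of_mul_eq_mul_left (by positivity) h5

include hq in
/-- a divisor coprime to `2` -/
theorem dvd_of_odd {c x e : ℕ} (hc : Nat.Coprime 2 c) (h : c ∣ (k + 1) ^ e * 2 ^ a * x) : c ∣ x := by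
  rw [hq, ← pow_mul, ← pow_add] at h
  exact (Nat.Coprime.pow_left _ hc).symm.dvd_of_dvd_mul_left h

include hq hk in
theorem even_q : ∃ r, k + 1 = 2 * r := by
  rcases n with _ | n
  · omega
  · exact ⟨2 ^ n, by rw [hq, pow_succ, mul_comm]⟩

include hq hk in
theorem cop (e : ℕ) : Nat.Coprime 2 ((k + 1) ^ (e + 1) + 1) := by
  obtain ⟨r, hr⟩ := even_q hq hk
  rw [Nat.coprime_two_left, pow_succ, hr]
  exact (Even.mul_left (even_two_mul r) _).add_one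

include hq hk in
theorem cop' : Nat.Coprime 2 (k + 2) := by
  have := cop hq hk 0
  rwa [zero_add, pow_one] at this

include hq hk hi in
theorem dvd_i : ((k + 1) ^ 3 + 1) * ((k + 1) ^ 2 + 1) * ((k + 1) ^ 6 + 1) ∣ i := by
  refine dvd_of_odd (a := a) (e := 1) hq (((cop hq hk 2).mul_right (cop hq hk 1)).mul_right (cop hq hk 5)) ?_
  rw [pow_one, eqi hk hi]
  exact Dvd.intro_left _ rfl

include hq hk hj in
theorem dvd_j : ((k + 1) ^ 3 + 1) * (k + 2) * ((k + 1) ^ 6 + 1) ∣ j := by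
  refine dvd_of_odd (a := b) (e := 2) hq (((cop hq hk 2).mul_right (cop' hq hk)).mul_right (cop hq hk 5)) ?_
  rw [pow_two, eqj hk hj]
  exact Dvd.intro_left _ rfl

include hq hk hi in
/-- all odd primes divide `i (q - 1)` -/
theorem prime_i {p : ℕ} (hp : p.Prime) (hp2 : p ≠ 2) (hd : p ∣ od (k + 1)) : p ∣ i * (k + 1 - 1) := by
  rcases n with _ | n
  · omega
  · exact arith hp hp2 hq (Nat.succ_pos n) hi hd

include hq hk hj in
/-- all odd primes divide `j (q - 1)` -/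
theorem prime_j {p : ℕ} (hp : p.Prime) (hp2 : p ≠ 2) (hd : p ∣ od (k + 1)) : p ∣ j * (k + 1 - 1) := by
  have h2 : ∀ m : ℕ, ¬ p ∣ 2 ^ m := fun m h =>
    hp2 ((Nat.prime_dvd_prime_iff_eq hp Nat.prime_two).1 (hp.dvd_of_dvd_pow h))
  rw [Nat.add_sub_cancel]
  by_cases hpk : p ∣ k
  · exact hpk.mul_left j
  refine Dvd.dvd.mul_right (dvd_trans ?_ (dvd_j hq hk hj)) _
  unfold od at hd
  rw [eq4, Nat.add_sub_cancel] at hd
  have e3 : (k + 1) ^ 3 + 1 = (k + 2) * (k * (k + 1) + 1) := by ring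
  have e6 : (k + 1) ^ 6 + 1 = ((k + 1) ^ 2 + 1) * ((k + 1) ^ 2 * (k * (k + 2)) + 1) := by ring
  rcases hp.dvd_mul.1 hd with h | h
  · rcases hp.dvd_mul.1 h with h | h
    · rcases hp.dvd_mul.1 h with h | h
      · rcases hp.dvd_mul.1 h with h | h
        · have h3 := hp.dvd_of_dvd_pow h
          rw [hq] at h3
          exact absurd h3 (h2 n)
        · exact absurd h hpk
      · exact (h.mul_right _).mul_right _
    · rcases hp.dvd_mul.1 h with h | h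
      · rcases hp.dvd_mul.1 h with h | h
        · exact absurd h hpk
        · exact (h.mul_left _).mul_right _
      · refine Dvd.dvd.mul_left ?_ _
        rw [e6]
        exact h.mul_right _
  · exact h.mul_left _

include hq hk hi hj in
/-- the two degrees are different -/
theorem deg_ne {D : ℕ} (h1 : i * (k + 1 - 1) ∣ D) (h2 : j * (k + 1 - 1) ∣ D) (h0 : 0 < D) : ¬ D ^ 2 ≤ od (k + 1) := by
  intro hle
  rw [Nat.add_sub_cancel] at h1 h2
  have d1 : (((k + 1) ^ 3 + 1) * ((k + 1) ^ 6 + 1) * k) * ((k + 1) ^ 2 + 1) ∣ D := by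
    refine dvd_trans ?_ h1
    have := Nat.mul_dvd_mul_right (dvd_i hq hk hi) k
    refine dvd_trans (dvd_of_eq ?_) this
    ring
  have d2 : (((k + 1) ^ 3 + 1) * ((k + 1) ^ 6 + 1) * k) * (k + 2) ∣ D := by
    refine dvd_trans ?_ h2
    have := Nat.mul_dvd_mul_right (dvd_j hq hk hj) k
    refine dvd_trans (dvd_of_eq ?_) this
    ring
  obtain ⟨x, rfl⟩ := dvd_trans (Dvd.intro _ rfl) d1
  set c := ((k + 1) ^ 3 + 1) * ((k + 1) ^ 6 + 1) * k with hc
  have hc0 : 0 < c := by positivity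
  have d1' := Nat.dvd_of_mul_dvd_mul_left hc0 d1
  have d2' := Nat.dvd_of_mul_dvd_mul_left hc0 d2
  have hcop : Nat.Coprime ((k + 1) ^ 2 + 1) (k + 2) := by
    have e : (k + 1) ^ 2 + 1 = 2 + (k + 2) * k := by ring
    rw [e, Nat.coprime_add_mul_left_left]
    exact cop' hq hk
  have d3 := hcop.mul_dvd_of_dvd_of_dvd d1' d2'
  have hx : 0 < x := Nat.pos_of_ne_zero (by rintro rfl; simp at h0)
  have hxl := Nat.le_of_dvd hx d3
  obtain ⟨M, hM⟩ : ∃ M, M = c * (((k + 1) ^ 2 + 1) * (k + 2)) := ⟨_, rfl⟩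
  have hDM : M ≤ c * x := by rw [hM]; exact Nat.mul_le_mul_left _ hxl
  have hod : od (k + 1) = ((k + 1) ^ 12 * k) * M := by
    unfold od
    rw [eq4, Nat.add_sub_cancel, hM, hc]
    ring
  have hMl : (k + 1) ^ 12 * k < M := by
    have hA : (k + 1) ^ 3 < (k + 1) ^ 3 + 1 := Nat.lt_succ_self _
    have hB : (k + 1) ^ 6 < (k + 1) ^ 6 + 1 := Nat.lt_succ_self _
    have hC : (k + 1) ^ 2 < (k + 1) ^ 2 + 1 := Nat.lt_succ_self _
    have hE : k + 1 < k + 2 := Nat.lt_succ_self _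
    have h3 := Nat.mul_lt_mul'' (Nat.mul_lt_mul'' hA hB) (Nat.mul_lt_mul'' hC hE)
    have h4 := Nat.mul_lt_mul_of_pos_right h3 hk
    calc (k + 1) ^ 12 * k = (k + 1) ^ 3 * (k + 1) ^ 6 * ((k + 1) ^ 2 * (k + 1)) * k := by ring
      _ < _ := h4
      _ = M := by rw [hM, hc]; ring
  have hM0 : 0 < M := by omega
  have h5 : (k + 1) ^ 12 * k * M < M * M := Nat.mul_lt_mul_of_pos_right hMl hM0
  have h6 : M * M ≤ (c * x) ^ 2 := by
    rw [pow_two]
    exact Nat.mul_le_mul hDM hDM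
  rw [hod] at hle
  omega

end arith

theorem sq_le {G : Type*} [Group G] [Finite G] (χ : IrrCharacter G) : charDegree (χ : G → ℂ) ^ 2 ≤ Nat.card G := by
  classical
  have hfin : Finite (IrrCharacter G) := Cfsg.Agent.Characters.Core.finite_irr
  have := Fintype.ofFinite (IrrCharacter G)
  have hsq : ∑ χ : IrrCharacter G, charDegree (χ : G → ℂ) ^ 2 = Nat.card G := by
    have h := Cfsg.Agent.CharDeep.PowerDegrees.sum_sq (G := G)
    have h2 : ∑ χ : IrrCharacter G, (χ : G → ℂ) 1 ^ 2 =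
        ((∑ χ : IrrCharacter G, charDegree (χ : G → ℂ) ^ 2 : ℕ) : ℂ) := by
      push_cast
      refine Finset.sum_congr rfl fun χ _ => ?_
      rw [Cfsg.Agent.Blocks.Basic.irr_one_eq_charDegree χ.2]
    rw [h2] at h
    exact_mod_cast h
  rw [← hsq]
  exact Finset.single_le_sum (f := fun χ : IrrCharacter G => charDegree (χ : G → ℂ) ^ 2)
    (fun _ _ => Nat.zero_le _) (Finset.mem_univ χ)

/-- transport of an irreducible character -/
theorem transport {G H : Type*} [Group G] [Group H] [Finite G] [Finite H] (e : G ≃* H) {χ : H → ℂ}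
    (hχ : IsIrrCharacter H χ) : ∃ ψ : IrrCharacter G, charDegree (ψ : G → ℂ) = charDegree χ := by
  refine ⟨⟨χ ∘ e, Cfsg.Agent.Characters.Core.isIrr_comp e.toMonoidHom e.surjective hχ⟩, ?_⟩
  have k1 := Cfsg.Agent.Blocks.Basic.irr_one_eq_charDegree hχ
  have k2 := Cfsg.Agent.Blocks.Basic.irr_one_eq_charDegree
    (Cfsg.Agent.Characters.Core.isIrr_comp e.toMonoidHom e.surjective hχ)
  have k3 : (χ ∘ e.toMonoidHom) 1 = χ 1 := by
    show χ (e 1) = χ 1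
    rw [map_one]
  rw [k3, k1] at k2
  exact_mod_cast k2.symm

/-- the three characters -/
theorem exists_three {G : Type*} [Group G] [Finite G] (h : Lie.Iso2F4 G) :
    ∃ (n k a b i j : ℕ) (χ₁ χ₂ χ₃ : IrrCharacter G), k + 1 = 2 ^ n ∧ 0 < k ∧ Nat.card G = od (k + 1) ∧
      (k + 1) * (k + 1 - 1) * (k + 1 + 1) * ((k + 1 - 1) * 2 ^ a) * i = od (k + 1) ∧
      ((k + 1) * (k + 1)) * (k + 1 - 1) * ((k + 1) * (k + 1) + 1) * ((k + 1 - 1) * 2 ^ b) * j = od (k + 1) ∧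
      i * (k + 1 - 1) ∣ charDegree (χ₁ : G → ℂ) ∧ j * (k + 1 - 1) ∣ charDegree (χ₂ : G → ℂ) ∧
      charDegree (χ₃ : G → ℂ) = i * (k + 1) := by
  obtain ⟨K, _, _, m, hm, hK, ⟨e⟩⟩ := h
  have hch := Cfsg.Agent.ChevalleyStructure.TwF4.Twisted.charP_two hK
  have hfin : Finite ↥(Lie.twistedF4 K (2 ^ m)) := Finite.of_equiv G e.toEquiv
  obtain ⟨φ, hφ⟩ := Cfsg.Agent.ChevalleyStructure.TwF4.TwistedFix.exists_rln hK
  have hcard := Cfsg.Agent.S1068.result hK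
  set S := Cfsg.Agent.KFacts.TwF4.Inst.full hK hφ with hS
  have hF := exists_unit hm hK
  obtain ⟨χ₁, h₁, d₁⟩ := exists_big S hF
  obtain ⟨χ₂, h₂, d₂⟩ := F4B.exists_big S hF
  obtain ⟨χ₃, h₃, d₃⟩ := F4St.exists_even S hF
  have hPG := Cfsg.Agent.KFacts.TwF4.Perf.two_J S (show S.R.p = 2 from rfl) (a := 2) (b := 8) (by norm_num)
  obtain ⟨a, ha⟩ := (IsPGroup.iff_card (p := 2)).1 hPG
  have hPG' := Cfsg.Agent.KFacts.TwF4.Perf.two_J S (show S.R.p = 2 from rfl) (a := 1) (b := 7) (by norm_num)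
  obtain ⟨b, hb⟩ := (IsPGroup.iff_card (p := 2)).1 hPG'
  have e1 := (PP S).card_mul_index
  have e2 := (F4B.PB S).card_mul_index
  have hq : Nat.card K = 2 ^ (2 * m + 1) := by rw [Nat.card_eq_fintype_card, hK]
  have hq2 : 2 ≤ 2 ^ (2 * m + 1) := by
    calc 2 = 2 ^ 1 := rfl
      _ ≤ _ := Nat.pow_le_pow_right (by norm_num) (by omega)
  rw [card_PP S hF, card_units, hq, ha, hcard] at e1
  rw [F4B.card_PB S hF, card_units, hq, hb, hcard] at e2
  rw [hq] at d₁ d₂ d₃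
  obtain ⟨k, hk⟩ : ∃ k, k + 1 = 2 ^ (2 * m + 1) := ⟨2 ^ (2 * m + 1) - 1, by omega⟩
  rw [← hk] at d₁ d₂ d₃ e1 e2
  obtain ⟨ψ₁, g₁⟩ := transport e h₁
  obtain ⟨ψ₂, g₂⟩ := transport e h₂
  obtain ⟨ψ₃, g₃⟩ := transport e h₃
  refine ⟨2 * m + 1, k, a, b, (PP S).index, (F4B.PB S).index, ψ₁, ψ₂, ψ₃, hk, by omega, ?_, e1, e2, ?_, ?_, ?_⟩
  · rw [Nat.card_congr e.toEquiv, hcard, ← hk]
    rfl
  · rw [g₁]; exact d₁
  · rw [g₂]; exact d₂
  · rw [g₃]; exact d₃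

/-- **The row `²F₄(q)`, `q > 2`, of `FactTwo`.** -/
theorem two_2F4 (S : Type u) [Group S] [Finite S] (h : Lie.Iso2F4 S) {p : ℕ} (hp : p.Prime) (hd : p ∣ Nat.card S) :
    H596.OneFacts.Two p S := by
  obtain ⟨n, k, a, b, i, j, χ₁, χ₂, χ₃, hq, hk, hc, hi, hj, d₁, d₂, d₃⟩ := exists_three h
  by_cases hp2 : p = 2
  · subst hp2
    have := Fact.mk hp
    obtain ⟨χ, hχ, hst⟩ := H163.Steinberg.exists_irr_of_hasSplit (hasSplit h)
    have Q : Sylow 2 S := default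
    have k1 := Cfsg.Agent.Blocks.Basic.irr_one_eq_charDegree hχ
    rw [(hst Q).1] at k1
    have k2 : Nat.card Q = charDegree χ := by exact_mod_cast k1
    refine H596.OneFacts.two_of_degree_ne ⟨χ, hχ⟩ χ₃ ?_ ?_ ?_
    · show 2 ∣ charDegree χ
      rw [← k2]
      exact Q.dvd_card_of_dvd_card hd
    · rw [d₃]
      obtain ⟨r, hr⟩ := even_q hq hk
      rw [hr]
      exact (Nat.dvd_mul_right 2 r).mul_left i
    · show charDegree χ ≠ charDegree (χ₃ : S → ℂ)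
      rw [← k2, d₃]
      intro h1
      obtain ⟨e, he⟩ := (IsPGroup.iff_card (p := 2)).1 Q.2
      have h2 : (k + 1) ^ 3 + 1 ∣ 2 ^ e := by
        rw [← he]
        refine dvd_trans ?_ (dvd_of_eq h1.symm)
        refine Dvd.dvd.mul_right (dvd_trans ?_ (dvd_i hq hk hi)) _
        exact (Nat.dvd_mul_right _ _).mul_right _
      have h3 : (k + 1) ^ 3 + 1 = 1 := (Nat.Coprime.pow_left e (cop hq hk 2)).symm.eq_one_of_dvd h2
      have h4 : 0 < (k + 1) ^ 3 := by positivity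
      omega
  · rw [hc] at hd
    refine H596.OneFacts.two_of_degree_ne χ₁ χ₂ ((prime_i hq hk hi hp hp2 hd).trans d₁)
      ((prime_j hq hk hj hp hp2 hd).trans d₂) ?_
    intro h1
    rw [← h1] at d₂
    refine deg_ne hq hk hi hj d₁ d₂ (Cfsg.Agent.Blocks.Basic.charDegree_pos χ₁.2) ?_
    rw [← hc]
    exact sq_le χ₁

end Cfsg.Agent.H42.Deg.F4Two
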